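import Cfsg.Agent.Lib.Linear.ClassSp.Fibre

/-!
# Alternating invariant forms in characteristic two: common definitions
-/

set_option autoImplicit false

universe u

namespace Cfsg.Lib.Linear.ClassSpTwo

open Polynomial

variable {F : Type u} [Field F] {V : Type u} [AddCommGroup V] [Module F V]

/-- A nondegenerate invariant alternating form. -/
structure AForm (g : Module.End F V) (B : LinearMap.BilinForm F V) : Prop extends ClassSp.IForm 1 g B where
  alt : ∀ x, B x x = 0

/-- At most `k` congruence classes of nondegenerate invariant alternating forms. -/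
def FormBound (g : Module.End F V) (k : ℕ) : Prop :=
  ∃ γ : Fin k → LinearMap.BilinForm F V, ∀ B, AForm g B → ∃ i, ClassSp.Eqv g B g (γ i)

/-- Multiplicities of the block sizes `1, …, D` of total size `2 * m`. -/
def muSet (D m : ℕ) : Finset (Fin D → ℕ) :=
  (Fintype.piFinset fun _ => Finset.range (2 * m + 1)).filter fun μ => ∑ j, (j.val + 1) * μ j = 2 * m

theorem mem_muSet {D m : ℕ} {μ : Fin D → ℕ} : μ ∈ muSet D m ↔ ∑ j, (j.val + 1) * μ j = 2 * m := by
  refine ⟨fun h => (Finset.mem_filter.1 h).2, fun h => Finset.mem_filter.2 ⟨Fintype.mem_piFinset.2 fun j => ?_, h⟩⟩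
  have h1 := Finset.single_le_sum (f := fun j : Fin D => (j.val + 1) * μ j) (fun _ _ => Nat.zero_le _)
    (Finset.mem_univ j)
  have h2 : μ j ≤ (j.val + 1) * μ j := Nat.le_mul_of_pos_left _ j.val.succ_pos
  rw [Finset.mem_range]
  simp only [h] at h1
  omega

/-- The block multiplicities of `g` at the eigenvalue `1`. -/
noncomputable def mu (g : Module.End F V) (D : ℕ) : Fin D → ℕ :=
  fun j => (ClassSp.mult g 1 (j.val + 1)).toNat

end Cfsg.Lib.Linear.ClassSpTwo
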