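import Cfsg.Agent.Lib.Linear.ClassSpTwo.Fibre

/-!
# Counting tuples by the multiplicities of the root one

A self-reciprocal polynomial without the root one has even degree and is determined by its upper half, a
monic polynomial with nonzero constant term.
-/

set_option autoImplicit false
set_option maxHeartbeats 1000000

universe u

namespace Cfsg.Lib.Linear.ClassSpTwo

open Polynomial Cfsg.Lib Cfsg.Lib.Linear.ClassNumberGL Cfsg.Lib.Linear.ClassU
open Cfsg.Lib.Linear.ClassSp (σ₁ sr_coeff sr_coeff_zero isSR_pow isSR_X_sub_C)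

variable {F : Type u} [Field F]

theorem sr_coeff_two (h2 : (2 : F) = 0) {R : F[X]} (h : IsSR (σ₁ F) R) {i : ℕ} (hi : i ≤ R.natDegree) :
    R.coeff (R.natDegree - i) = R.coeff i := by
  rw [sr_coeff h hi]
  rcases sr_coeff_zero h with e | e <;> rw [e]
  · rw [one_mul]
  · linear_combination (-(R.coeff i)) * h2

theorem eval_one_eq_sum (R : F[X]) : R.eval 1 = ∑ i ∈ Finset.range (R.natDegree + 1), R.coeff i := by
  rw [eval_eq_sum_range]
  simp

/-- Without the root one the degree is even and the middle coefficient is the value at one. -/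
theorem sr_middle (h2 : (2 : F) = 0) {R : F[X]} (h : IsSR (σ₁ F) R) (h1 : R.eval 1 ≠ 0) :
    ∃ d, R.natDegree = 2 * d ∧ R.coeff d ≠ 0 := by
  have hz : ∀ z : F, z + z = 0 := fun z => by linear_combination z * h2
  rcases Nat.even_or_odd' R.natDegree with ⟨d, hd | hd⟩
  · refine ⟨d, hd, ?_⟩
    have hsum : R.eval 1 = R.coeff d := by
      rw [eval_one_eq_sum, hd, show 2 * d + 1 = d + (d + 1) by omega, Finset.sum_range_add, Finset.sum_range_succ',
        add_zero, ← Finset.sum_range_reflect (fun k => R.coeff (d + (k + 1))) d, ← add_assoc, ← Finset.sum_add_distrib,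
        Finset.sum_eq_zero, zero_add]
      intro i hi
      rw [Finset.mem_range] at hi
      have e := sr_coeff_two h2 h (i := i) (by omega)
      rw [show d + (d - 1 - i + 1) = R.natDegree - i by omega, e, hz]
    rwa [← hsum]
  · exfalso
    apply h1
    rw [eval_one_eq_sum, hd, show 2 * d + 1 + 1 = (d + 1) + (d + 1) by omega, Finset.sum_range_add,
      ← Finset.sum_range_reflect (fun k => R.coeff (d + 1 + k)) (d + 1), ← Finset.sum_add_distrib, Finset.sum_eq_zero]
    intro i hi
    rw [Finset.mem_range] at hi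
    have e := sr_coeff_two h2 h (i := i) (by omega)
    rw [show d + 1 + (d + 1 - 1 - i) = R.natDegree - i by omega, e, hz]

theorem coeff_iterate_divX (R : F[X]) (d k : ℕ) : ((divX^[d]) R).coeff k = R.coeff (k + d) := by
  induction d generalizing k with
  | zero => rfl
  | succ d ih => rw [Function.iterate_succ_apply', coeff_divX, ih, add_assoc, add_comm 1 d]

/-- The upper half of a self-reciprocal polynomial. -/
noncomputable def half (R : F[X]) : F[X] := (divX^[R.natDegree / 2]) R

theorem half_spec (h2 : (2 : F) = 0) {R : F[X]} (h : IsSR (σ₁ F) R) (h1 : R.eval 1 ≠ 0) :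
    (half R).Monic ∧ (half R).coeff 0 ≠ 0 ∧ 2 * (half R).natDegree = R.natDegree ∧
      ∀ R' : F[X], IsSR (σ₁ F) R' → R'.eval 1 ≠ 0 → half R' = half R → R' = R := by
  obtain ⟨d, hd, hmid⟩ := sr_middle h2 h h1
  have hc : ∀ k, (half R).coeff k = R.coeff (k + d) := fun k => by
    rw [half, coeff_iterate_divX, show R.natDegree / 2 = d by omega]
  have hle : (half R).natDegree ≤ d := natDegree_le_iff_coeff_eq_zero.2 fun k hk => by
    rw [hc, coeff_eq_zero_of_natDegree_lt]
    omega
  have htop : (half R).coeff d = 1 := by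
    rw [hc, ← two_mul, ← hd]
    exact h.1
  have hdeg : (half R).natDegree = d := le_antisymm hle (le_natDegree_of_ne_zero (by rw [htop]; exact one_ne_zero))
  refine ⟨monic_of_natDegree_le_of_coeff_eq_one d hle htop, by rwa [hc, zero_add], by omega, fun R' hR' h1' he => ?_⟩
  obtain ⟨d', hd', -⟩ := sr_middle h2 hR' h1'
  have hc' : ∀ k, (half R').coeff k = R'.coeff (k + d') := fun k => by
    rw [half, coeff_iterate_divX, show R'.natDegree / 2 = d' by omega]
  have hle' : (half R').natDegree ≤ d' := natDegree_le_iff_coeff_eq_zero.2 fun k hk => by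
    rw [hc', coeff_eq_zero_of_natDegree_lt]
    omega
  have htop' : (half R').coeff d' = 1 := by
    rw [hc', ← two_mul, ← hd']
    exact hR'.1
  have hdd : d' = d := by
    rw [← hdeg, ← he]
    exact le_antisymm (le_natDegree_of_ne_zero (by rw [htop']; exact one_ne_zero)) hle'
  subst hdd
  have hup : ∀ i, d' ≤ i → R'.coeff i = R.coeff i := fun i hi => by
    have := congrArg (fun P : F[X] => P.coeff (i - d')) he
    simp only [hc, hc', Nat.sub_add_cancel hi] at this
    exact this
  refine Polynomial.ext fun i => ?_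
  rcases Nat.lt_or_ge i d' with hi | hi
  · rw [← sr_coeff_two h2 h (by omega), ← sr_coeff_two h2 hR' (by omega), hd, hd']
    exact hup _ (by omega)
  · exact hup i hi

theorem N_le (q : ℕ) (hq : 1 ≤ q) : ∀ J k, k ≤ J → N q J k ≤ q ^ k := by
  intro J k hk
  obtain ⟨s, rfl⟩ := Nat.exists_eq_add_of_le hk
  induction s with
  | zero =>
    rcases Nat.eq_zero_or_pos k with rfl | hk0
    · rw [N_zero, pow_zero]
    · exact N_self_le q hq k hk0
  | succ s ih => rw [← add_assoc, N_succ, E_eq_zero _ _ _ (by omega), add_zero]; exact ih (by omega)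

variable [Fintype F]

theorem card_tup_le_pow {J k : ℕ} (hk : k ≤ J) : Nat.card (Tup F J k) ≤ Fintype.card F ^ k :=
  (finite_card_tup J k).2.trans (N_le _ Fintype.card_pos J k hk)

/-- The sum over the tuples of a function of the multiplicities of the root one. -/
theorem sum_tuples_le (h2 : (2 : F) = 0) {n : ℕ} (w : (Fin (n + n) → ℕ) → ℕ)
    (S : Finset (Tup F (n + n) (n + n))) (hS : ∀ t ∈ S, ∀ j, IsSR (σ₁ F) (t.1 j)) :
    ∑ t ∈ S, w (muT t) ≤ ∑ m ∈ Finset.range (n + 1), (∑ μ ∈ muSet (n + n) m, w μ) * Fintype.card F ^ (n - m) := by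
  classical
  have hdec : ∀ t ∈ S, ∀ j, ∃ R : F[X], t.1 j = (X - C 1) ^ muT t j * R ∧ IsSR (σ₁ F) R ∧ R.eval 1 ≠ 0 ∧
      (t.1 j).natDegree = muT t j + R.natDegree := fun t ht j => by
    have h := hS t ht j
    obtain ⟨R, hR, hnd⟩ := exists_eq_pow_rootMultiplicity_mul_and_not_dvd (t.1 j) h.1.ne_zero 1
    have hL := isSR_pow (isSR_X_sub_C (one_mul (1 : F))) (rootMultiplicity 1 (t.1 j))
    have hRS : IsSR (σ₁ F) R := hL.of_mul (hR ▸ h)
    refine ⟨R, hR, hRS, fun h0 => hnd (dvd_iff_isRoot.2 h0), ?_⟩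
    conv_lhs => rw [hR, hL.1.natDegree_mul hRS.1, natDegree_pow, natDegree_X_sub_C, mul_one]
    rfl
  choose! R hRt hRS hR1 hRd using hdec
  set deg : Tup F (n + n) (n + n) → ℕ := fun t => ∑ j, (j.val + 1) * (half (R t j)).natDegree with hdegdef
  have hweight : ∀ t ∈ S, ∑ j, (j.val + 1) * muT t j + 2 * deg t = 2 * n := fun t ht => by
    have h := t.2.2
    rw [Finset.sum_congr rfl fun j _ => show (j.val + 1) * (t.1 j).natDegree =
      (j.val + 1) * muT t j + 2 * ((j.val + 1) * (half (R t j)).natDegree) by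
        rw [hRd t ht j, ← (half_spec h2 (hRS t ht j) (hR1 t ht j)).2.2.1]; ring] at h
    rw [Finset.sum_add_distrib, ← Finset.mul_sum] at h
    rw [hdegdef]
    linarith
  let key : Tup F (n + n) (n + n) → Σ _ : ℕ, Fin (n + n) → ℕ := fun t => ⟨n - deg t, muT t⟩
  have hmaps : ∀ t ∈ S, key t ∈ (Finset.range (n + 1)).sigma (muSet (n + n)) := fun t ht => by
    have := hweight t ht
    refine Finset.mem_sigma.2 ⟨Finset.mem_range.2 (by show n - deg t < n + 1; omega), mem_muSet.2 ?_⟩
    show ∑ j, (j.val + 1) * muT t j = 2 * (n - deg t)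
    omega
  rw [← Finset.sum_fiberwise_of_maps_to hmaps]
  refine le_of_le_of_eq (Finset.sum_le_sum (g := fun p => w p.2 * Fintype.card F ^ (n - p.1)) fun p hp => ?_) ?_
  · rw [Finset.sum_congr rfl fun t ht => congrArg (fun z : Σ _ : ℕ, Fin (n + n) → ℕ => w z.2) (Finset.mem_filter.1 ht).2,
      Finset.sum_const, smul_eq_mul, mul_comm]
    refine Nat.mul_le_mul_left _ ?_
    rw [← Nat.card_eq_finsetCard]
    have hp1 : p.1 < n + 1 := Finset.mem_range.1 (Finset.mem_sigma.1 hp).1
    haveI := (finite_card_tup (F := F) (n + n) (n - p.1)).1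
    refine le_trans (Nat.card_le_card_of_injective (β := Tup F (n + n) (n - p.1)) (fun t => ⟨fun j => half (R t.1 j),
      fun j => ?_, ?_⟩) fun t t' h => ?_) (card_tup_le_pow (by omega))
    · have h := half_spec h2 (hRS t.1 (Finset.mem_filter.1 t.2).1 j) (hR1 t.1 (Finset.mem_filter.1 t.2).1 j)
      exact ⟨h.1, h.2.1⟩
    · have h := hweight t.1 (Finset.mem_filter.1 t.2).1
      have hkey : n - deg t.1 = p.1 := congrArg Sigma.fst (Finset.mem_filter.1 t.2).2
      show deg t.1 = n - p.1
      omega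
    · obtain ⟨ht, hk⟩ := Finset.mem_filter.1 t.2
      obtain ⟨ht', hk'⟩ := Finset.mem_filter.1 t'.2
      refine Subtype.ext (Subtype.ext (funext fun j => ?_))
      have e : half (R t.1 j) = half (R t'.1 j) := congrFun (congrArg Subtype.val h) j
      have eμ : muT t.1 j = muT t'.1 j := by
        have := congrArg (fun z : Σ _ : ℕ, Fin (n + n) → ℕ => z.2 j) (hk.trans hk'.symm)
        exact this
      rw [hRt t.1 ht j, hRt t'.1 ht' j, eμ,
        (half_spec h2 (hRS t'.1 ht' j) (hR1 t'.1 ht' j)).2.2.2 _ (hRS t.1 ht j) (hR1 t.1 ht j) e]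
  · rw [Finset.sum_sigma]
    exact Finset.sum_congr rfl fun m _ => by rw [Finset.sum_mul]

/-- The classes of `Sp_{2n}(q)`. -/
theorem card_classes_le (h2 : (2 : F) = 0) {n : ℕ} (hn : 1 ≤ n) (w : (Fin (n + n) → ℕ) → ℕ)
    (hw : ∀ {V : Type u} [AddCommGroup V] [Module F V] [FiniteDimensional F V] (g : Module.End F V),
      (g - 1) ^ (n + n) = 0 → FormBound g (w (mu g (n + n)))) :
    Nat.card (ConjClasses ↥(Matrix.symplecticGroup (Fin n) F)) ≤
      ∑ m ∈ Finset.range (n + 1), (∑ μ ∈ muSet (n + n) m, w μ) * Fintype.card F ^ (n - m) := by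
  classical
  haveI := (finite_card_tup (F := F) (n + n) (n + n)).1
  letI := Fintype.ofFinite (Tup F (n + n) (n + n))
  rw [← Nat.card_congr (Equiv.sigmaFiberEquiv (ClassSp.tupS (F := F) (m := n))), Nat.card_sigma]
  refine le_trans (le_of_eq (Finset.sum_filter_of_ne
    (p := fun t : Tup F (n + n) (n + n) => ∀ j, IsSR (σ₁ F) (t.1 j)) fun t _ ht => ?_).symm) ?_
  · obtain ⟨⟨C, hC⟩⟩ := (Nat.card_ne_zero.1 ht).1
    exact hC ▸ ClassSp.isSR_tuple C.out (ClassSp.isTupleOf_tupS C)
  refine le_trans (Finset.sum_le_sum fun t _ => fibre_le h2 hn hw t) (sum_tuples_le h2 w _ fun t ht => ?_)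
  exact (Finset.mem_filter.1 ht).2

end Cfsg.Lib.Linear.ClassSpTwo
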