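import Cfsg.Agent.Lib.Linear.ClassSpTwo.Split

/-!
# Classes of `Sp_{2m}(q)` over one tuple, `q` even

A bound for the forms on the unipotent part bounds the classes over a tuple.
-/

set_option autoImplicit false
set_option maxHeartbeats 1000000

universe u

namespace Cfsg.Lib.Linear.ClassSpTwo

open Polynomial Matrix Cfsg.Lib Cfsg.Lib.Linear.ClassNumberGL Cfsg.Lib.Linear.ClassWeight Cfsg.Lib.Linear.ClassU
open Cfsg.Lib.Linear.ClassSp (jj toGL tupS toGL_mem exists_toGL toGL_injective isTupleOf_tupS mult_tuple jj_transpose ju)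

variable {F : Type u} [Field F] {m : ℕ}

/-- The multiplicities of the root one in a tuple. -/
noncomputable def muT {n : ℕ} (t : Tup F n n) : Fin n → ℕ := fun j => rootMultiplicity 1 (t.1 j)

theorem mu_eq_muT {n : ℕ} {g : GL (Fin n) F} {t : Tup F n n} (h : IsTupleOf g t) :
    mu (Matrix.toLinAlgEquiv' g.1) n = muT t := by
  funext j
  rw [mu, mult_tuple h 1 j, Int.toNat_natCast]
  rfl

theorem jj_alt (v : Fin (m + m) → F) : v ⬝ᵥ jj F m *ᵥ v = 0 := by
  rw [ClassSp.jj, ClassSp.reI, Matrix.coe_reindexAlgEquiv, Matrix.reindex_apply, Matrix.submatrix_mulVec_equiv,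
    Equiv.symm_symm, ← comp_equiv_dotProduct_comp_equiv _ _ finSumFinEquiv, Function.comp_assoc, Equiv.symm_comp_self,
    Function.comp_id]
  generalize v ∘ ⇑finSumFinEquiv = u
  rw [Matrix.J, Matrix.fromBlocks_mulVec, dotProduct, Fintype.sum_sum_type]
  simp [mul_comm, Matrix.neg_mulVec, Finset.sum_neg_distrib]

variable [Fintype F]

/-- A family of bounds for the unipotent parts bounds the fibres. -/
theorem fibre_le (h2 : (2 : F) = 0) (hm : 1 ≤ m) {w : (Fin (m + m) → ℕ) → ℕ}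
    (hw : ∀ {V : Type u} [AddCommGroup V] [Module F V] [FiniteDimensional F V] (g : Module.End F V),
      (g - 1) ^ (m + m) = 0 → FormBound g (w (mu g (m + m))))
    (t : Tup F (m + m) (m + m)) :
    Nat.card {C : ConjClasses ↥(Matrix.symplecticGroup (Fin m) F) // tupS C = t} ≤ w (muT t) := by
  classical
  rcases isEmpty_or_nonempty {C : ConjClasses ↥(Matrix.symplecticGroup (Fin m) F) // tupS C = t} with h | ⟨⟨C₀, h₀⟩⟩
  · rw [Nat.card_of_isEmpty]; exact Nat.zero_le _
  have hT₀ : IsTupleOf (toGL F m C₀.out) t := h₀ ▸ isTupleOf_tupS C₀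
  set A₀ := toGL F m C₀.out with hA₀
  set g : Module.End F (Fin (m + m) → F) := Matrix.toLinAlgEquiv' A₀.1 with hg
  have hN : 1 ≤ orderOf A₀ := orderOf_pos A₀
  have hgN : g ^ orderOf A₀ = 1 := by
    rw [hg, ← map_pow, ← Units.val_pow_eq_pow_val, pow_orderOf_eq_one, Units.val_one, map_one]
  have hx : ∀ C : {C : ConjClasses ↥(Matrix.symplecticGroup (Fin m) F) // tupS C = t},
      ∃ x : GL (Fin (m + m)) F, x * A₀ * x⁻¹ = toGL F m C.1.out := fun C => by
    have hC : IsTupleOf (toGL F m C.1.out) t := by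
      have := isTupleOf_tupS C.1
      rwa [C.2] at this
    exact isConj_iff.1 (hT₀.isConj hC)
  choose x hx using hx
  let B : {C : ConjClasses ↥(Matrix.symplecticGroup (Fin m) F) // tupS C = t} →
      LinearMap.BilinForm F (Fin (m + m) → F) := fun C => Matrix.toBilin' ((x C).1ᵀ * jj F m * (x C).1)
  have hB : ∀ C, AForm g (B C) := fun C => by
    refine ⟨⟨fun v hv => ?_, fun v w => ?_, fun v w => ?_⟩, fun v => ?_⟩
    · have h1 : v ᵥ* ((x C).1ᵀ * jj F m * (x C).1) = 0 := funext fun i => by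
        have := hv (Pi.single i 1)
        simp only [B, Matrix.toBilin'_apply', Matrix.dotProduct_mulVec, dotProduct_single, mul_one] at this
        exact this
      have hu : IsUnit (Matrix.transpose ((x C).1) * jj F m * (x C).1) :=
        ((Matrix.isUnit_transpose _).2 (x C).isUnit |>.mul (ju F m).isUnit).mul (x C).isUnit
      exact Matrix.vecMul_injective_iff_isUnit.2 hu (h1.trans (Matrix.zero_vecMul _).symm)
    · have hneg : ∀ z : F, -z = z := fun z => by linear_combination (-z) * h2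
      simp only [B, Matrix.toBilin'_apply', one_mul]
      rw [Matrix.dotProduct_mulVec, ← Matrix.mulVec_transpose, dotProduct_comm, Matrix.transpose_mul,
        Matrix.transpose_mul, Matrix.transpose_transpose, jj_transpose, neg_mul, mul_neg, ← mul_assoc,
        Matrix.neg_mulVec, dotProduct_neg, hneg]
    · simp only [B, hg, Matrix.toLinAlgEquiv'_apply, Matrix.toBilin'_apply']
      have hxA : (x C).1 * A₀.1 = (toGL F m C.1.out).1 * (x C).1 := by
        rw [← Units.val_mul, ← Units.val_mul, ← hx C, inv_mul_cancel_right]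
      rw [Matrix.mulVec_mulVec, Matrix.dotProduct_mulVec, ← Matrix.vecMul_transpose, Matrix.vecMul_vecMul,
        ← Matrix.dotProduct_mulVec]
      congr 2
      calc A₀.1ᵀ * ((x C).1ᵀ * jj F m * (x C).1 * A₀.1) = ((x C).1 * A₀.1)ᵀ * jj F m * ((x C).1 * A₀.1) := by
            rw [Matrix.transpose_mul]; simp only [mul_assoc]
        _ = (x C).1ᵀ * ((toGL F m C.1.out).1ᵀ * jj F m * (toGL F m C.1.out).1) * (x C).1 := by
            rw [hxA, Matrix.transpose_mul]; simp only [mul_assoc]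
        _ = _ := by rw [(toGL_mem _).2]
    · simp only [B, Matrix.toBilin'_apply']
      rw [← Matrix.mulVec_mulVec, ← Matrix.mulVec_mulVec, Matrix.dotProduct_mulVec, Matrix.vecMul_transpose]
      exact jj_alt _
  have hfin : Module.finrank F (Fin (m + m) → F) ≤ m + m := (Module.finrank_fin_fun F).le
  have hmu : mu (gOne g (m + m)) (m + m) = muT t := by rw [mu_gOne g hfin (by omega), hg, mu_eq_muT hT₀]
  obtain ⟨γ, hγ⟩ : FormBound g (w (muT t)) :=
    hmu ▸ formBound_of_one1 h2 hN hgN hfin (by omega) (hw _ (gOne_nil g (m + m)))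
  choose i hi using fun C => hγ (B C) (hB C)
  refine le_trans (Nat.card_le_card_of_injective i fun C D hCD => ?_) (le_of_eq (Nat.card_fin _))
  obtain ⟨θ, hθ, hθB⟩ := (hi C).trans (hCD ▸ ClassSp.Eqv.symm (hi D))
  set Y : Matrix (Fin (m + m)) (Fin (m + m)) F := LinearMap.toMatrixAlgEquiv' θ.toLinearMap with hY
  set Y' : Matrix (Fin (m + m)) (Fin (m + m)) F := LinearMap.toMatrixAlgEquiv' θ.symm.toLinearMap with hY'
  let y : GL (Fin (m + m)) F := ⟨Y, Y', by
      rw [hY, hY', ← map_mul, ← map_one (LinearMap.toMatrixAlgEquiv' (R := F) (n := Fin (m + m)))]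
      exact congrArg _ (LinearMap.ext fun v => θ.apply_symm_apply v), by
      rw [hY, hY', ← map_mul, ← map_one (LinearMap.toMatrixAlgEquiv' (R := F) (n := Fin (m + m)))]
      exact congrArg _ (LinearMap.ext fun v => θ.symm_apply_apply v)⟩
  have hYv : ∀ v, Y *ᵥ v = θ v := fun v => by
    rw [← Matrix.toLinAlgEquiv'_apply, hY, Matrix.toLinAlgEquiv'_toMatrixAlgEquiv']
    rfl
  have hyA : y * A₀ = A₀ * y := Units.ext (Matrix.ext_of_mulVec_single fun a => by
    rw [Units.val_mul, Units.val_mul, ← Matrix.mulVec_mulVec, ← Matrix.mulVec_mulVec]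
    show Y *ᵥ _ = _ *ᵥ (Y *ᵥ _)
    rw [hYv, hYv]
    exact hθ _)
  have hyJ : ((x D).1 * y.1)ᵀ * jj F m * ((x D).1 * y.1) = (x C).1ᵀ * jj F m * (x C).1 := by
    apply Matrix.toBilin'.injective
    refine LinearMap.ext₂ fun v w => ?_
    have h1 := hθB v w
    simp only [B, Matrix.toBilin'_apply', ← hYv] at h1 ⊢
    rw [← h1, Matrix.transpose_mul, show y.1ᵀ * (x D).1ᵀ * jj F m * ((x D).1 * y.1) =
      Yᵀ * ((x D).1ᵀ * jj F m * (x D).1 * Y) by simp only [mul_assoc]; rfl, ← Matrix.mulVec_mulVec,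
      ← Matrix.mulVec_mulVec, Matrix.dotProduct_mulVec, Matrix.vecMul_transpose]
  obtain ⟨z, hz⟩ := exists_toGL (z := x D * y * (x C)⁻¹) (by
    rw [Units.val_mul, Units.val_mul, Matrix.transpose_mul]
    calc ((x C)⁻¹).1ᵀ * ((x D).1 * y.1)ᵀ * jj F m * ((x D).1 * y.1 * ((x C)⁻¹).1)
        = ((x C)⁻¹).1ᵀ * (((x D).1 * y.1)ᵀ * jj F m * ((x D).1 * y.1)) * ((x C)⁻¹).1 := by simp only [mul_assoc]
      _ = ((x C).1 * ((x C)⁻¹).1)ᵀ * jj F m * ((x C).1 * ((x C)⁻¹).1) := by
          rw [hyJ, Matrix.transpose_mul]; simp only [mul_assoc]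
      _ = _ := by rw [Units.mul_inv, Matrix.transpose_one, one_mul, mul_one])
  apply Subtype.ext
  rw [← Quotient.out_eq C.1, ← Quotient.out_eq D.1]
  refine ConjClasses.mk_eq_mk_iff_isConj.2 (isConj_iff.2 ⟨z, toGL_injective ?_⟩)
  rw [map_mul, map_mul, map_inv, hz, ← hx C, ← hx D]
  calc x D * y * (x C)⁻¹ * (x C * A₀ * (x C)⁻¹) * (x D * y * (x C)⁻¹)⁻¹
      = x D * (y * A₀) * y⁻¹ * (x D)⁻¹ := by group
    _ = x D * (A₀ * y) * y⁻¹ * (x D)⁻¹ := by rw [hyA]
    _ = _ := by group

end Cfsg.Lib.Linear.ClassSpTwo
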