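import Cfsg.Agent.Lib.Linear.ClassSpTwo.Basic

/-!
# Congruence of invariant forms without the eigenvalue one

In characteristic two, if `g - 1` is invertible there is an operator `lam` commuting with `g` with
`lam + lam' = 1` for the adjoint `lam'`; then every self-adjoint invertible operator is a norm, so all
invariant forms are congruent.
-/

set_option autoImplicit false

universe u

namespace Cfsg.Lib.Linear.ClassSpTwo

open Polynomial Cfsg.Lib
open Cfsg.Lib.Linear.ClassSp (IForm Eqv)

variable {F : Type u} [Field F] {V : Type u} [AddCommGroup V] [Module F V]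

/-- `a'` is the adjoint of `a`. -/
def Adj (B : LinearMap.BilinForm F V) (a a' : Module.End F V) : Prop := ∀ x y, B (a x) y = B x (a' y)

variable {B : LinearMap.BilinForm F V} {a a' b b' : Module.End F V}

theorem Adj.one : Adj B (1 : Module.End F V) 1 := fun _ _ => rfl

theorem Adj.mul (ha : Adj B a a') (hb : Adj B b b') : Adj B (a * b) (b' * a') := fun x y => by
  rw [Module.End.mul_apply, Module.End.mul_apply, ha, hb]

theorem Adj.add (ha : Adj B a a') (hb : Adj B b b') : Adj B (a + b) (a' + b') := fun x y => by
  simp only [LinearMap.add_apply, map_add, ha x y, hb x y]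

theorem Adj.sub (ha : Adj B a a') (hb : Adj B b b') : Adj B (a - b) (a' - b') := fun x y => by
  simp only [LinearMap.sub_apply, map_sub, ha x y, hb x y]

theorem Adj.pow (ha : Adj B a a') (k : ℕ) : Adj B (a ^ k) (a' ^ k) := by
  induction k with
  | zero => rw [pow_zero, pow_zero]; exact Adj.one
  | succ k ih => rw [pow_succ, pow_succ']; exact ih.mul ha

theorem Adj.symm (hs : ∀ x y, B y x = B x y) (ha : Adj B a a') : Adj B a' a := fun x y => by
  rw [hs y (a' x), ← ha, hs]

theorem neg_eq_self (h2 : (2 : F) = 0) (a : Module.End F V) : -a = a := by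
  rw [neg_eq_iff_add_eq_zero, ← two_smul F a, h2, zero_smul]

theorem sub_one_pow (h2 : (2 : F) = 0) (x : Module.End F V) (k : ℕ) : (x - 1) ^ 2 ^ k = x ^ 2 ^ k - 1 := by
  haveI : CharP F 2 := CharTwo.of_one_ne_zero_of_two_eq_zero one_ne_zero h2
  haveI : Fact (Nat.Prime 2) := ⟨Nat.prime_two⟩
  have h := congrArg (aeval x) (sub_pow_expChar_pow (X : F[X]) 1 (p := 2) (n := k))
  simpa using h

theorem norm_step {R : Type*} [Ring R] (htwo : (2 : R) = 0) {l l' n : R} (hl : Commute l n) (hl' : Commute l' n)
    (hsum : l' + l = 1) : (1 + l' * n) * (1 + n) * (1 + l * n) = 1 + n * n * (1 + (l' * l + l' * l * n)) := by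
  have hz : ∀ x : R, x + x = 0 := fun x => by rw [← two_mul, htwo, zero_mul]
  have e1 : (1 + l' * n) * (1 + n) = (1 + n) * (1 + l' * n) :=
    ((Commute.one_left _).add_left (Commute.one_right _ |>.add_right (hl'.mul_left (Commute.refl n)))).eq
  have e2 : (1 + l' * n) * (1 + l * n) = 1 + n + l' * l * (n * n) := by
    rw [add_mul, mul_add, mul_add, one_mul, one_mul, mul_one, mul_assoc l' n, ← mul_assoc n l, ← hl.eq,
      mul_assoc l n, ← mul_assoc l' l, add_assoc 1 (l * n), ← add_assoc (l * n) (l' * n), ← add_mul,
      add_comm l l', hsum, one_mul, add_assoc]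
  have hc : Commute (l' * l) n := hl'.mul_left hl
  rw [e1, mul_assoc, e2]
  generalize l' * l = P at hc ⊢
  calc (1 + n) * (1 + n + P * (n * n))
      = 1 + (n + n) + (n * n + (P * (n * n) + n * (P * (n * n)))) := by noncomm_ring
    _ = 1 + (n * n + (n * n * P + n * n * (P * n))) := by
        have h1 : P * (n * n) = n * n * P := (hc.mul_right hc).eq
        have h3 : n * (P * (n * n)) = n * n * (P * n) := by
          conv_lhs => rw [← mul_assoc P n n, hc.eq]
          simp only [mul_assoc]
        rw [hz, add_zero, h3, h1]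
    _ = _ := by rw [mul_add, mul_one, mul_add]

variable [FiniteDimensional F V]

theorem eqv_nilpotent (h2 : (2 : F) = 0) {g l l' : Module.End F V} (hB : IForm 1 g B) (hl : Adj B l l')
    (hlg : Commute l g) (hlg' : Commute l' g) (hsum : l' + l = 1) (hll : Commute l' l) :
    ∀ (k : ℕ) (c : Module.End F V), Adj B c c → Commute c g → Commute l c → Commute l' c → (c - 1) ^ 2 ^ k = 0 →
      ∀ B' : LinearMap.BilinForm F V, (∀ x y, B' x y = B (c x) y) → Eqv g B' g B := by
  intro k
  induction k with
  | zero =>
    intro c _ _ _ _ hc B' hB'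
    rw [pow_zero, pow_one, sub_eq_zero] at hc
    refine ⟨LinearEquiv.refl F V, fun _ => rfl, fun x y => ?_⟩
    rw [hB', hc]
    rfl
  | succ k ih =>
    intro c hca hcg hlc hlc' hc B' hB'
    set n := c - 1 with hn
    have hcn : c = 1 + n := by rw [hn]; abel
    have htwo : (2 : Module.End F V) = 0 := by
      rw [← map_ofNat (algebraMap F (Module.End F V)) 2, h2, map_zero]
    have hln : Commute l n := hlc.sub_right (Commute.one_right l)
    have hln' : Commute l' n := hlc'.sub_right (Commute.one_right l')
    have hng : Commute n g := hcg.sub_left (Commute.one_left g)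
    have hsym : ∀ x y, B y x = B x y := fun x y => by rw [hB.sym, one_mul]
    have hna : Adj B n n := hca.sub Adj.one
    set t := 1 + l * n with ht
    set t' := 1 + l' * n with ht'
    have hta : Adj B t t' := Adj.one.add (by rw [hln'.eq]; exact hl.mul hna)
    have hta' : Adj B t' t := hta.symm hsym
    set c' := t' * c * t with hc'
    have hc'eq : c' = 1 + n * n * (1 + (l' * l + l' * l * n)) := by
      rw [hc', hcn, ht, ht']; exact norm_step htwo hln hln' hsum
    have hc'a : Adj B c' c' := by
      have h := (hta'.mul hca).mul hta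
      rwa [← mul_assoc] at h
    have hc'g : Commute c' g :=
      (((Commute.one_left g).add_left (hlg'.mul_left hng)).mul_left hcg).mul_left
        ((Commute.one_left g).add_left (hlg.mul_left hng))
    have hl_c' : ∀ z, Commute z n → Commute z l → Commute z l' → Commute z c' := fun z h1 h3 h4 => by
      rw [hc'eq]
      exact (Commute.one_right z).add_right ((h1.mul_right h1).mul_right
        ((Commute.one_right z).add_right ((h4.mul_right h3).add_right ((h4.mul_right h3).mul_right h1))))
    have hnil : (c' - 1) ^ 2 ^ k = 0 := by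
      have hw : Commute (n * n) (1 + (l' * l + l' * l * n)) := by
        have h1 : Commute n (l' * l) := (hln'.mul_left hln).symm
        have h3 : Commute n (1 + (l' * l + l' * l * n)) :=
          (Commute.one_right n).add_right (h1.add_right (h1.mul_right (Commute.refl n)))
        exact h3.mul_left h3
      rw [hc'eq, add_sub_cancel_left, hw.mul_pow, ← pow_two, ← pow_mul, ← pow_succ', hc, zero_mul]
    have htu : IsUnit t := by
      refine IsNilpotent.isUnit_one_add ⟨2 ^ (k + 1), ?_⟩
      rw [hln.mul_pow, hc, mul_zero]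
    have he := (Module.End.isUnit_iff t).1 htu
    have h := ih c' hc'a hc'g (hl_c' l hln (Commute.refl l) hll.symm) (hl_c' l' hln' hll (Commute.refl l')) hnil
      (B'.compl₁₂ t t) fun x y => by
        rw [LinearMap.compl₁₂_apply, hB', hc', Module.End.mul_apply, Module.End.mul_apply, hta']
    refine Eqv.trans ?_ h
    exact (show Eqv g (B'.compl₁₂ t t) g B' from ⟨LinearEquiv.ofBijective t he,
      fun x => LinearMap.congr_fun ((Commute.one_left g).add_left (hlg.mul_left hng)).eq x,
      fun x y => rfl⟩).symm

variable [Finite F]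

/-- All invariant symmetric forms are congruent when `g - 1` is injective. -/
theorem eqv_of_injective (h2 : (2 : F) = 0) {g : Module.End F V} {N : ℕ} (hN : 1 ≤ N) (hg : g ^ N = 1)
    {B B' : LinearMap.BilinForm F V} (hB : IForm 1 g B) (hB' : IForm 1 g B') (hinj : Function.Injective ((g - 1 : Module.End F V) : V → V)) :
    Eqv g B' g B := by
  classical
  haveI : Finite V := Module.finite_of_finite F
  haveI : Finite (Module.End F V) := Finite.of_injective (fun f => (f : V → V)) DFunLike.coe_injective
  obtain ⟨c, hc, hca, hcg0, hcinj⟩ := ClassSp.exists_op one_ne_zero hN hg hB hB'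
  have hunit : ∀ f : Module.End F V, Function.Injective f → IsUnit f := fun f hf =>
    (Module.End.isUnit_iff f).2 ⟨hf, Finite.injective_iff_surjective.1 hf⟩
  have hsym : ∀ x y, B y x = B x y := fun x y => by rw [hB.sym, one_mul]
  have hcg : Commute c g := LinearMap.ext hcg0
  set h := g ^ (N - 1) with hh
  have hgh : g * h = 1 := by rw [hh, ← pow_succ', Nat.sub_add_cancel hN, hg]
  have hghc : Commute g h := Commute.self_pow g _
  have hga : Adj B g h := fun x y => by
    conv_lhs => rw [show y = (g * h) y by rw [hgh]; rfl]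
    rw [Module.End.mul_apply, hB.inv]
  -- the operator with `lam + lam' = 1`
  set u := g + h with hu
  have huu : IsUnit u := by
    have h1 : (g - 1) * (g - 1) = g * u := by
      rw [hu, mul_add, hgh, sub_mul, mul_sub, one_mul, mul_one, sub_sub_eq_add_sub, sub_add_eq_add_sub,
        sub_eq_add_neg (g * g + 1), neg_eq_self h2, sub_eq_add_neg, neg_eq_self h2]
      rw [add_assoc, show g + g = 0 by rw [← two_smul F g, h2, zero_smul], add_zero]
    refine hunit u fun x y hxy => ?_
    have h3 := congrArg g hxy
    rw [← Module.End.mul_apply, ← Module.End.mul_apply, ← h1, Module.End.mul_apply, Module.End.mul_apply] at h3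
    exact hinj (hinj h3)
  set v := u ^ (orderOf u - 1) with hv
  have huv : u * v = 1 := by
    obtain ⟨U, hU⟩ := huu
    rw [hv, ← pow_succ', Nat.sub_add_cancel, pow_orderOf_eq_one]
    exact orderOf_pos_iff.2 (by rw [← hU]; exact Units.coeHom _ |>.isOfFinOrder (isOfFinOrder_of_finite U))
  have hua : Adj B u u := by
    have := hga.add (hga.symm hsym)
    rwa [add_comm h g] at this
  have hvg : Commute v g := ((Commute.refl g).add_left hghc.symm).pow_left _
  have hvh : Commute v h := hvg.pow_right _
  set l := g * v with hl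
  set l' := h * v with hl'
  have hla : Adj B l l' := by
    have := hga.mul (hua.pow (orderOf u - 1))
    rwa [← hv, hvh.eq] at this
  have hsum : l' + l = 1 := by rw [hl', hl, ← add_mul, add_comm h g, huv]
  have hlg : Commute l g := (Commute.refl g).mul_left hvg
  have hlg' : Commute l' g := hghc.symm.mul_left hvg
  have hll : Commute l' l :=
    ((hghc.symm.mul_left hvg).mul_right ((hvh.symm.mul_left (Commute.refl v))))
  have hlc : ∀ z, Commute z g → Commute l z ∧ Commute l' z := fun z hz => by
    have h1 : Commute v z := ((hz.symm).add_left (hz.pow_right _).symm).pow_left _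
    exact ⟨hz.symm.mul_left h1, (hz.pow_right _).symm.mul_left h1⟩
  -- split off a square
  obtain ⟨U, hU⟩ := hunit c hcinj
  set M := orderOf U with hM
  obtain ⟨a, m, hm, hMam⟩ := Nat.exists_eq_pow_mul_and_not_dvd (orderOf_pos U).ne' 2 (by norm_num)
  obtain ⟨j, rfl⟩ := Nat.odd_iff.2 (by omega : m % 2 = 1)
  set x := c ^ ((2 ^ a - 1) * (2 * j + 1)) with hx
  set r := c ^ (j + 1) with hr
  have hcM : c ^ (2 ^ a * (2 * j + 1)) = 1 := by
    rw [← hU, ← Units.val_pow_eq_pow_val, ← hMam, pow_orderOf_eq_one, Units.val_one]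
  have hrx : x * r * r = c := by
    rw [hx, hr, ← pow_add, ← pow_add]
    have h1 : (2 ^ a - 1) * (2 * j + 1) + (j + 1) + (j + 1) = 2 ^ a * (2 * j + 1) + 1 := by
      obtain ⟨P, hP⟩ : ∃ P, 2 ^ a = P + 1 := ⟨2 ^ a - 1, by have := Nat.one_le_two_pow (n := a); omega⟩
      rw [hP, Nat.add_sub_cancel]; ring
    rw [h1, pow_succ, hcM, one_mul]
  have hxnil : (x - 1) ^ 2 ^ a = 0 := by
    rw [sub_one_pow h2, hx, ← pow_mul, mul_assoc, mul_comm (2 * j + 1), mul_comm (2 ^ a - 1), pow_mul, hcM, one_pow,
      sub_self]
  have hcAdj : Adj B c c := hca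
  have key := eqv_nilpotent h2 hB hla hlg hlg' hsum hll a x (hcAdj.pow _) (hcg.pow_left _)
    ((hlc c hcg).1.pow_right _) ((hlc c hcg).2.pow_right _) hxnil (B.compl₁₂ x LinearMap.id) fun p q => rfl
  refine Eqv.trans ?_ key
  have hrinj : Function.Bijective r := (Module.End.isUnit_iff r).1 ((hU ▸ U.isUnit).pow _)
  refine ⟨LinearEquiv.ofBijective r hrinj, fun p => (LinearMap.congr_fun (hcg.pow_left (j + 1)).eq p :), fun p q => ?_⟩
  show B (x (r p)) (r q) = B' p q
  rw [hc, ← (hcAdj.pow (j + 1)) (x (r p)) q]
  show B ((r * x * r) p) q = B (c p) q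
  rw [show r * x * r = c by
    conv_rhs => rw [← hrx]
    rw [hr, hx, ← pow_add, ← pow_add, ← pow_add, ← pow_add]
    congr 1
    ring]

end Cfsg.Lib.Linear.ClassSpTwo
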