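import Mathlib

/-!
# The sign of a quadratic form in characteristic two

`psi` is the character of order two trivial on the values of `x ^ 2 + x`; the sign of `Q` is the sum of
`psi (Q v)` over the space.
-/

set_option autoImplicit false

universe u v

namespace Cfsg.Lib.Linear.ClassSpTwo

variable {F : Type u} [Field F]

open scoped Classical in
/-- The character of order two trivial on `x ^ 2 + x`. -/
noncomputable def psi (c : F) : ℤ := if ∃ x : F, x ^ 2 + x = c then 1 else -1

theorem psi_range (x : F) : psi (x ^ 2 + x) = 1 := if_pos ⟨x, rfl⟩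

theorem psi_zero : psi (0 : F) = 1 := if_pos ⟨0, by simp⟩

variable [Finite F]

theorem psi_add (h2 : (2 : F) = 0) (a b : F) : psi (a + b) = psi a * psi b := by
  classical
  let f : F →+ F := AddMonoidHom.mk' (fun x => x ^ 2 + x) fun x y => by linear_combination (x * y) * h2
  have hker : Nat.card f.ker = 2 := by
    have : (f.ker : Set F) = {0, -1} := by
      ext x
      simp only [SetLike.mem_coe, AddMonoidHom.mem_ker, Set.mem_insert_iff, Set.mem_singleton_iff]
      show x ^ 2 + x = 0 ↔ _
      constructor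
      · intro h
        rcases mul_eq_zero.mp (show x * (x + 1) = 0 by linear_combination h) with h | h
        · exact Or.inl h
        · exact Or.inr (eq_neg_of_add_eq_zero_left h)
      · rintro (rfl | rfl) <;> ring
    rw [← SetLike.coe_sort_coe, Nat.card_coe_set_eq, this, Set.ncard_pair (fun h => one_ne_zero (neg_eq_zero.mp h.symm))]
  have hidx : f.range.index = 2 := by
    have h1 := f.range.card_mul_index
    have h3 := f.ker.card_mul_index
    rw [AddSubgroup.index_ker, hker] at h3
    rw [← h3, mul_comm 2] at h1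
    exact Nat.eq_of_mul_eq_mul_left Nat.card_pos h1
  have hp : ∀ c, psi c = if c ∈ f.range then 1 else -1 := fun c => if_congr Iff.rfl rfl rfl
  rw [hp, hp, hp]
  have h := AddSubgroup.add_mem_iff_of_index_two hidx (a := a) (b := b)
  by_cases ha : a ∈ f.range <;> by_cases hb : b ∈ f.range <;> simp [h, ha, hb]

theorem psi_sq (h2 : (2 : F) = 0) (a : F) : psi (a ^ 2) = psi a := by
  have h := psi_add h2 (a ^ 2) a
  have h' : psi a * psi a = 1 := by
    unfold psi
    split_ifs <;> norm_num
  rw [psi_range] at h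
  calc psi (a ^ 2) = psi (a ^ 2) * (psi a * psi a) := by rw [h', mul_one]
    _ = psi a := by rw [← mul_assoc, ← h, one_mul]

theorem exists_psi_neg (h2 : (2 : F) = 0) : ∃ c : F, psi c = -1 := by
  haveI : CharP F 2 := CharTwo.of_one_ne_zero_of_two_eq_zero one_ne_zero h2
  have hns : ¬ Function.Surjective (fun x : F => x ^ 2 + x) := fun hs => by
    have := (Finite.injective_iff_surjective.2 hs) (a₁ := (0 : F)) (a₂ := 1) (by simp [CharTwo.add_self_eq_zero])
    exact one_ne_zero this.symm
  obtain ⟨c, hc⟩ := not_forall.1 hns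
  exact ⟨c, if_neg hc⟩

/-- The sign of a quadratic form. -/
noncomputable def sgn {V : Type v} (Q : V → F) : ℤ := ∑ᶠ x, psi (Q x)

variable {V W : Type v}

omit [Finite F] in
theorem sgn_equiv (e : V ≃ W) {Q : V → F} {Q' : W → F} (h : ∀ x, Q' (e x) = Q x) : sgn Q = sgn Q' :=
  finsum_eq_of_bijective e e.bijective fun x => by rw [h]

theorem sgn_prod (h2 : (2 : F) = 0) [Finite V] [Finite W] (Q : V → F) (Q' : W → F) :
    sgn (fun x : V × W => Q x.1 + Q' x.2) = sgn Q * sgn Q' := by
  haveI := Fintype.ofFinite V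
  haveI := Fintype.ofFinite W
  simp only [sgn, finsum_eq_sum_of_fintype, psi_add h2, Fintype.sum_prod_type, Finset.sum_mul, Finset.mul_sum]
  exact Finset.sum_comm

omit [Finite F] in
/-- The sum over a hyperbolic pair twisted by two linear characters. -/
theorem sum_pair {A : Type*} [CommRing A] [Fintype A] (hA : (2 : A) = 0) (χ : A → ℤ)
    (hadd : ∀ a b, χ (a + b) = χ a * χ b) (hsq : ∀ a, χ (a ^ 2) = χ a)
    (h01 : χ 0 = 1) (hnd : ∀ a, a ≠ 0 → ∃ z, χ (a * z) ≠ 1) (c d : A) :
    ∑ x, ∑ y, χ (c ^ 2 * x ^ 2 + x * y + d ^ 2 * y ^ 2) = Fintype.card A * χ (c * d) := by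
  classical
  have hz : ∀ a, a ≠ 0 → ∑ x, χ (a * x) = 0 := fun a ha => by
    obtain ⟨z, hz⟩ := hnd a ha
    have h1 : ∑ x, χ (a * x) = χ (a * z) * ∑ x, χ (a * x) := by
      rw [Finset.mul_sum]
      refine (Fintype.sum_equiv (Equiv.addLeft z) _ _ fun x => ?_).symm
      rw [Equiv.coe_addLeft, mul_add, hadd]
    by_contra h
    exact hz (mul_right_cancel₀ h (h1.symm.trans (one_mul _).symm))
  have h0 : ∀ y, ∑ x, χ (c ^ 2 * x ^ 2 + x * y + d ^ 2 * y ^ 2) = χ (d * y) * ∑ x, χ ((y + c) * x) := fun y => by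
    rw [Finset.mul_sum]
    refine Finset.sum_congr rfl fun x _ => ?_
    rw [hadd, hadd, ← mul_pow, ← mul_pow, hsq, hsq, ← hadd, mul_comm (χ (c * x + x * y))]
    congr 2
    ring
  rw [Finset.sum_comm, Finset.sum_congr rfl fun y _ => h0 y, Finset.sum_eq_single c]
  · rw [Finset.sum_congr rfl fun x _ => show χ ((c + c) * x) = 1 by
      rw [← two_mul, hA, zero_mul, zero_mul, h01]]
    simp [mul_comm d c, Finset.card_univ, mul_comm]
  · intro y _ hy
    rw [hz (y + c) fun h => hy ?_, mul_zero]
    linear_combination h - c * hA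
  · intro h
    exact absurd (Finset.mem_univ c) h

end Cfsg.Lib.Linear.ClassSpTwo
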