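import Cfsg.Agent.Lib.Linear.ClassSpTwo.Basic
import Cfsg.Agent.Lib.Linear.ClassSpTwo.Sgn

/-!
# Isometries of quadratic spaces in characteristic two: common definitions
-/

set_option autoImplicit false

universe u

namespace Cfsg.Lib.Linear.ClassSpTwo

variable {F : Type u} [Field F]
variable {V W : Type u} [AddCommGroup V] [Module F V] [AddCommGroup W] [Module F W]

/-- An isometry `g` of a quadratic form `Q` with nondegenerate polar form `B`. -/
structure OSys (g : Module.End F V) (B : LinearMap.BilinForm F V) (Q : V → F) : Prop extends AForm g B where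
  qsmul : ∀ (c : F) x, Q (c • x) = c ^ 2 * Q x
  qadd : ∀ x y, Q (x + y) = Q x + Q y + B x y
  qinv : ∀ x, Q (g x) = Q x

/-- Equivariant isometry of quadratic forms. -/
def OEqv (g : Module.End F V) (Q : V → F) (g' : Module.End F W) (Q' : W → F) : Prop :=
  ∃ θ : V ≃ₗ[F] W, (∀ x, θ (g x) = g' (θ x)) ∧ ∀ x, Q' (θ x) = Q x

end Cfsg.Lib.Linear.ClassSpTwo
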