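import Cfsg.Agent.Lib.Linear.ClassSpTwo.OBasic
import Cfsg.Agent.Lib.Linear.PrimeClasses.Embed

/-!
# The signs of the standard forms; the sign determines the space
-/

set_option autoImplicit false

universe u

namespace Cfsg.Lib.Linear.ClassSpTwo

open Cfsg.Lib.Linear.Orth (Space exists_space_plus exists_space_minus)
open Cfsg.Agent.Lib.Linear.PrimeClasses (Embeds classify embeds_minus_minus)

variable {F : Type u} [Field F] [Finite F]

theorem psi_eq_one_or (c : F) : psi c = 1 ∨ psi c = -1 := by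
  unfold psi
  split_ifs <;> simp

theorem psi_sum (h2 : (2 : F) = 0) {ι : Type*} (s : Finset ι) (f : ι → F) :
    psi (∑ i ∈ s, f i) = ∏ i ∈ s, psi (f i) := by
  classical
  induction s using Finset.induction_on with
  | empty => simp [psi_zero]
  | insert i s hi ih => rw [Finset.sum_insert hi, Finset.prod_insert hi, psi_add h2, ih]

/-- A binary form with unit cross term. -/
theorem sum_binary [Fintype F] (h2 : (2 : F) = 0) (b : F) :
    ∑ x : F, ∑ y : F, psi (x ^ 2 + x * y + b * y ^ 2) = Fintype.card F * psi b := by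
  haveI : CharP F 2 := CharTwo.of_one_ne_zero_of_two_eq_zero one_ne_zero h2
  obtain ⟨d, hd⟩ := FiniteField.isSquare_of_char_two (ringChar.eq F 2) b
  have h := sum_pair (A := F) h2 psi (psi_add h2) (psi_sq h2) psi_zero (fun a ha => by
    obtain ⟨c, hc⟩ := exists_psi_neg (F := F) h2
    exact ⟨a⁻¹ * c, by rw [mul_inv_cancel_left₀ ha, hc]; norm_num⟩) 1 d
  rw [one_mul, ← psi_sq h2 d] at h
  simpa [hd, pow_two] using h

theorem sgn_plus [Fintype F] (h2 : (2 : F) = 0) (m : ℕ) :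
    sgn (Cfsg.quadFormPlus m F) = (Fintype.card F : ℤ) ^ m := by
  classical
  have hpair : ∑ p : F × F, psi (p.1 * p.2) = Fintype.card F := by
    have h := sum_pair (A := F) h2 psi (psi_add h2) (psi_sq h2) psi_zero (fun a ha => by
      obtain ⟨c, hc⟩ := exists_psi_neg (F := F) h2
      exact ⟨a⁻¹ * c, by rw [mul_inv_cancel_left₀ ha, hc]; norm_num⟩) 0 0
    rw [Fintype.sum_prod_type]
    simpa [psi_zero] using h
  let e : (Fin m ⊕ Fin m → F) ≃ (Fin m → F × F) :=
    (Equiv.sumArrowEquivProdArrow _ _ _).trans (Equiv.arrowProdEquivProdArrow _ _ _).symm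
  rw [sgn_equiv e (Q := Cfsg.quadFormPlus m F) (Q' := fun w : Fin m → F × F => ∑ i, (w i).1 * (w i).2) fun v => rfl, sgn,
    finsum_eq_sum_of_fintype]
  simp only [psi_sum h2]
  rw [← Fintype.prod_sum (fun (_ : Fin m) (p : F × F) => psi (p.1 * p.2)), Finset.prod_congr rfl fun i _ => hpair,
    Finset.prod_const, Finset.card_univ, Fintype.card_fin]

theorem sgn_minus [Fintype F] (h2 : (2 : F) = 0) (m : ℕ) (a b : F)
    (hab : ∀ z₁ z₂ : F, z₁ ^ 2 + a * z₁ * z₂ + b * z₂ ^ 2 = 0 → z₁ = 0 ∧ z₂ = 0) :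
    sgn (Cfsg.quadFormMinus m F a b) = -(Fintype.card F : ℤ) ^ (m + 1) := by
  classical
  haveI : CharP F 2 := CharTwo.of_one_ne_zero_of_two_eq_zero one_ne_zero h2
  have ha : a ≠ 0 := fun ha => by
    obtain ⟨r, hr⟩ := FiniteField.isSquare_of_char_two (ringChar.eq F 2) b
    exact one_ne_zero (hab r 1 (by rw [ha, hr]; linear_combination (r * r) * h2)).2
  have hpsi : psi (b / a ^ 2) = -1 := if_neg fun ⟨x, hx⟩ => one_ne_zero (hab (a * x) 1 (by
    rw [eq_div_iff (pow_ne_zero 2 ha)] at hx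
    linear_combination hx + b * h2)).2
  have hbin : ∑ p : F × F, psi (p.1 ^ 2 + a * p.1 * p.2 + b * p.2 ^ 2) = -(Fintype.card F : ℤ) := by
    rw [Fintype.sum_prod_type, Finset.sum_congr rfl fun x _ => ?_, sum_binary h2 (b / a ^ 2), hpsi, mul_neg_one]
    refine Fintype.sum_equiv (Equiv.mulLeft₀ a ha) _ _ fun y => congrArg psi ?_
    show _ = x ^ 2 + x * (a * y) + b / a ^ 2 * (a * y) ^ 2
    field_simp
  let e : ((Fin m ⊕ Fin m) ⊕ Fin 2 → F) ≃ (Fin m ⊕ Fin m → F) × (F × F) :=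
    (Equiv.sumArrowEquivProdArrow _ _ _).trans ((Equiv.refl _).prodCongr (finTwoArrowEquiv F))
  rw [sgn_equiv e (Q := Cfsg.quadFormMinus m F a b) (Q' := fun w => Cfsg.quadFormPlus m F w.1 + (w.2.1 ^ 2 + a * w.2.1 * w.2.2 + b * w.2.2 ^ 2))
    fun v => rfl]
  rw [sgn_prod h2 (Cfsg.quadFormPlus m F) (fun p : F × F => p.1 ^ 2 + a * p.1 * p.2 + b * p.2 ^ 2), sgn_plus h2,
    show sgn (fun p : F × F => p.1 ^ 2 + a * p.1 * p.2 + b * p.2 ^ 2) = -(Fintype.card F : ℤ) by
      rw [sgn, finsum_eq_sum_of_fintype, hbin]]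
  ring

variable {V : Type u} [AddCommGroup V] [Module F V] [FiniteDimensional F V] {g : Module.End F V}
  {β : LinearMap.BilinForm F V} {R : V → F}

/-- A space with the sign of a standard space is isometric to it. -/
theorem exists_iso_std [Fintype F] (h2 : (2 : F) = 0) (h : OSys g β R) {k : ℕ} (hk : 1 ≤ k)
    (hfr : Module.finrank F V = 2 * k) (a b : F)
    (hab : ∀ z₁ z₂ : F, z₁ ^ 2 + a * z₁ * z₂ + b * z₂ ^ 2 = 0 → z₁ = 0 ∧ z₂ = 0) :
    (sgn R = (Fintype.card F : ℤ) ^ k →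
      ∃ θ : V ≃ₗ[F] (Fin k ⊕ Fin k → F), ∀ x, Cfsg.quadFormPlus k F (θ x) = R x) ∧
    (sgn R = -(Fintype.card F : ℤ) ^ k →
      ∃ θ : V ≃ₗ[F] ((Fin (k - 1) ⊕ Fin (k - 1)) ⊕ Fin 2 → F), ∀ x, Cfsg.quadFormMinus (k - 1) F a b (θ x) = R x) := by
  classical
  let bs : Module.Basis (Fin (2 * k)) F V := Module.finBasisOfFinrankEq F V hfr
  let L : (Fin (2 * k) → F) ≃ₗ[F] V := bs.equivFun.symm
  have C : Space (fun v => R (L v)) (β.compl₁₂ L.toLinearMap L.toLinearMap) :=
    ⟨fun c v => by rw [map_smul, h.qsmul], fun u v => by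
      show R (L (u + v)) - R (L u) - R (L v) = β (L u) (L v)
      rw [map_add, h.qadd]; ring,
    fun v hv => L.injective (by
      rw [map_zero]
      refine h.sep _ fun y => ?_
      rw [h.sym, ← L.apply_symm_apply y]
      simpa using hv (L.symm y))⟩
  have hinj : ∀ {κ : Type} [Fintype κ] [DecidableEq κ] {S : (κ → F) → F} (f : (Fin (2 * k) → F) →ₗ[F] (κ → F)),
      Fintype.card κ = 2 * k → (∀ v, S (f v) = R (L v)) → ∃ θ : V ≃ₗ[F] (κ → F), ∀ x, S (θ x) = R x := by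
    intro κ _ _ S f hκ hf
    have hfi : Function.Injective f := LinearMap.ker_eq_bot.1 (LinearMap.ker_eq_bot'.2 fun v hv => C.nondeg _ fun u => by
      rw [← C.polar, QuadraticMap.polar]
      show R (L (u + v)) - R (L u) - R (L v) = 0
      rw [← hf, ← hf, ← hf, map_add, hv, add_zero, show S 0 = 0 by
        rw [← map_zero f, hf, map_zero]
        have := h.qsmul 0 0
        simpa using this]
      ring)
    have hfb : Function.Bijective f := ⟨hfi, (LinearMap.injective_iff_surjective_of_finrank_eq_finrank (by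
      rw [Module.finrank_fintype_fun_eq_card, Module.finrank_fintype_fun_eq_card, hκ, Fintype.card_fin])).1 hfi⟩
    exact ⟨L.symm.trans (LinearEquiv.ofBijective f hfb), fun x => by
      show S (f (L.symm x)) = R x
      rw [hf, L.apply_symm_apply]⟩
  have hp : Fintype.card (Fin k ⊕ Fin k) = 2 * k := by simp; omega
  have hm : Fintype.card ((Fin (k - 1) ⊕ Fin (k - 1)) ⊕ Fin 2) = 2 * k := by simp; omega
  have hne : (Fintype.card F : ℤ) ^ k ≠ -(Fintype.card F : ℤ) ^ k := by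
    have : (0 : ℤ) < (Fintype.card F : ℤ) ^ k := pow_pos (by exact_mod_cast Fintype.card_pos) k
    omega
  rcases classify C hk (Fintype.card_fin _) with ⟨⟨f, hf⟩, -⟩ | ⟨ζ, hζ, hf, -⟩
  · obtain ⟨θ, hθ⟩ := hinj f hp hf
    have hs : sgn R = (Fintype.card F : ℤ) ^ k := by rw [sgn_equiv θ.toEquiv hθ, sgn_plus h2]
    exact ⟨fun _ => ⟨θ, hθ⟩, fun h' => absurd (hs.symm.trans h') hne⟩
  · obtain ⟨f, hf⟩ := hf.trans (embeds_minus_minus le_rfl hab hζ)
    obtain ⟨θ, hθ⟩ := hinj f hm hf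
    have hs : sgn R = -(Fintype.card F : ℤ) ^ k := by
      rw [sgn_equiv θ.toEquiv hθ, sgn_minus h2 _ a b hab, Nat.sub_add_cancel hk]
    exact ⟨fun h' => absurd (h'.symm.trans hs) hne, fun _ => ⟨θ, hθ⟩⟩

end Cfsg.Lib.Linear.ClassSpTwo
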