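import Cfsg.Agent.Lib.Linear.ClassSpTwo.Norm

/-!
# Splitting off the eigenvalue one

The generalised eigenspace of `1` and the range of the high power of `g - 1` are orthogonal; a bound for the
forms on the first is one for the forms on the whole space.
-/

set_option autoImplicit false

universe u

namespace Cfsg.Lib.Linear.ClassSpTwo

open Polynomial Cfsg.Lib
open Cfsg.Lib.Linear.ClassSp (IForm Eqv rk prodB prodB_apply)

variable {F : Type u} [Field F] {V : Type u} [AddCommGroup V] [Module F V]

/-- The kernel of a power of `g - 1`. -/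
noncomputable def one1 (g : Module.End F V) (D : ℕ) : Submodule F V := LinearMap.ker ((g - 1) ^ D)

/-- The range of a power of `g - 1`. -/
noncomputable def rest (g : Module.End F V) (D : ℕ) : Submodule F V := LinearMap.range ((g - 1) ^ D)

theorem pow_apply_comm (g : Module.End F V) (D : ℕ) (x : V) : ((g - 1) ^ D) (g x) = g (((g - 1) ^ D) x) :=
  LinearMap.congr_fun (((Commute.refl g).sub_left (Commute.one_left g)).pow_left D).eq x

theorem one1_mem {g : Module.End F V} {D : ℕ} {x : V} (hx : x ∈ one1 g D) : g x ∈ one1 g D := by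
  rw [one1, LinearMap.mem_ker] at hx ⊢
  rw [pow_apply_comm, hx, map_zero]

theorem rest_mem {g : Module.End F V} {D : ℕ} {x : V} (hx : x ∈ rest g D) : g x ∈ rest g D := by
  obtain ⟨y, rfl⟩ := hx
  exact ⟨g y, pow_apply_comm g D y⟩

/-- `g` on the kernel. -/
noncomputable def gOne (g : Module.End F V) (D : ℕ) : Module.End F (one1 g D) := g.restrict fun _ hx => one1_mem hx

/-- `g` on the range. -/
noncomputable def gRest (g : Module.End F V) (D : ℕ) : Module.End F (rest g D) := g.restrict fun _ hx => rest_mem hx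

variable [FiniteDimensional F V]

theorem isCompl_one1 (g : Module.End F V) {D : ℕ} (hD : Module.finrank F V ≤ D) : IsCompl (one1 g D) (rest g D) := by
  have hdis : Disjoint (one1 g D) (rest g D) := by
    rw [Submodule.disjoint_def]
    rintro x hx ⟨y, rfl⟩
    have h1 : y ∈ LinearMap.ker ((g - 1) ^ (D + D)) := by
      rw [LinearMap.mem_ker, pow_add, Module.End.mul_apply]
      exact hx
    rw [Module.End.ker_pow_eq_ker_pow_finrank_of_le (by omega),
      ← Module.End.ker_pow_eq_ker_pow_finrank_of_le hD] at h1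
    exact h1
  refine ⟨hdis, codisjoint_iff.2 (Submodule.eq_top_of_disjoint _ _ ?_ hdis)⟩
  rw [one1, rest, add_comm, LinearMap.finrank_range_add_finrank_ker]

/-- The decomposition of the space. -/
noncomputable def splitEquiv (g : Module.End F V) {D : ℕ} (hD : Module.finrank F V ≤ D) :
    (one1 g D × rest g D) ≃ₗ[F] V :=
  Submodule.prodEquivOfIsCompl _ _ (isCompl_one1 g hD)

theorem splitEquiv_apply (g : Module.End F V) {D : ℕ} (hD : Module.finrank F V ≤ D) (x : one1 g D × rest g D) :
    splitEquiv g hD x = (x.1 : V) + x.2 :=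
  rfl

theorem splitEquiv_comm (g : Module.End F V) {D : ℕ} (hD : Module.finrank F V ≤ D) (x : one1 g D × rest g D) :
    splitEquiv g hD ((gOne g D).prodMap (gRest g D) x) = g (splitEquiv g hD x) := by
  rw [splitEquiv_apply, splitEquiv_apply, map_add]
  rfl

theorem gOne_nil (g : Module.End F V) (D : ℕ) : (gOne g D - 1) ^ D = 0 := by
  refine LinearMap.ext fun x => Subtype.ext ?_
  have h : ∀ (k : ℕ) (z : one1 g D), ((((gOne g D - 1 : Module.End F (one1 g D)) ^ k) z : one1 g D) : V) =
      ((g - 1 : Module.End F V) ^ k) (z : V) := fun k => by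
    induction k with
    | zero => simp
    | succ k ih =>
      intro z
      rw [pow_succ, Module.End.mul_apply, ih, pow_succ, Module.End.mul_apply]
      rfl
  rw [h]
  exact LinearMap.mem_ker.1 x.2

theorem gRest_injective (g : Module.End F V) {D : ℕ} (hD : Module.finrank F V ≤ D) (hD1 : 1 ≤ D) :
    Function.Injective ((gRest g D - 1 : Module.End F (rest g D)) : rest g D → rest g D) := by
  refine LinearMap.ker_eq_bot.1 (LinearMap.ker_eq_bot'.2 fun x hx => Subtype.ext ?_)
  have h1 : (g - 1) (x : V) = 0 := congrArg Subtype.val hx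
  refine Submodule.disjoint_def.1 (isCompl_one1 g hD).disjoint _ ?_ x.2
  rw [one1, LinearMap.mem_ker, ← pow_sub_mul_pow (g - 1 : Module.End F V) hD1, pow_one, Module.End.mul_apply, h1, map_zero]

theorem mult_gRest (g : Module.End F V) {D : ℕ} (hD : Module.finrank F V ≤ D) (hD1 : 1 ≤ D) (e : ℕ) :
    ClassSp.mult (gRest g D) 1 e = 0 := by
  have hinj : Function.Injective (aeval (gRest g D) (X - C (1 : F))) := by
    have h := gRest_injective g hD hD1
    rwa [map_sub, aeval_X, aeval_C, map_one]
  have hrk : ∀ k, rk (gRest g D) ((X - C (1 : F)) ^ k) = Module.finrank F (rest g D) := fun k => by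
    rw [rk, map_pow, LinearMap.range_eq_top.2, finrank_top]
    rw [Module.End.coe_pow]
    exact (LinearMap.injective_iff_surjective.1 hinj).iterate k
  rw [ClassSp.mult, hrk, hrk, hrk]
  ring

theorem mu_gOne (g : Module.End F V) {D : ℕ} (hD : Module.finrank F V ≤ D) (hD1 : 1 ≤ D) :
    mu (gOne g D) D = mu g D := by
  funext j
  rw [mu, mu, ← ClassSp.mult_equiv (splitEquiv g hD) (splitEquiv_comm g hD), ClassSp.mult_prod,
    mult_gRest g hD hD1, add_zero]

omit [FiniteDimensional F V] in
theorem adj_sub_one {g : Module.End F V} {B : LinearMap.BilinForm F V} {N : ℕ} (hN : 1 ≤ N) (hg : g ^ N = 1)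
    (hB : IForm 1 g B) : Adj B (g - 1) (g ^ (N - 1) - 1) := by
  refine Adj.sub (fun x y => ?_) Adj.one
  conv_lhs => rw [← ClassSp.pow_sub_one_apply hN hg y]
  rw [hB.inv]

theorem orth {g : Module.End F V} {B : LinearMap.BilinForm F V} {N D : ℕ} (hN : 1 ≤ N) (hg : g ^ N = 1)
    (hB : IForm 1 g B) {x y : V} (hx : x ∈ one1 g D) (hy : y ∈ rest g D) : B x y = 0 ∧ B y x = 0 := by
  have h0 : B y x = 0 := by
    obtain ⟨z, rfl⟩ := hy
    rw [(adj_sub_one hN hg hB).pow D]
    obtain ⟨S, hS⟩ : ∃ S : Module.End F V, (g ^ (N - 1) - 1) ^ D = S * (g - 1) ^ D :=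
      ⟨(∑ i ∈ Finset.range (N - 1), g ^ i) ^ D, by
        rw [← Commute.mul_pow (Commute.sum_left _ _ _ fun i _ =>
          ((Commute.refl g).pow_left i).sub_right (Commute.one_right _)), geom_sum_mul]⟩
    rw [hS, Module.End.mul_apply, LinearMap.mem_ker.1 hx, map_zero, map_zero]
  exact ⟨by rw [hB.sym y x, h0, mul_zero], h0⟩

/-- Bounds on the kernel are bounds on the whole space. -/
theorem formBound_of_one1 [Finite F] (h2 : (2 : F) = 0) {g : Module.End F V} {N : ℕ} (hN : 1 ≤ N) (hg : g ^ N = 1)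
    {D : ℕ} (hD : Module.finrank F V ≤ D) (hD1 : 1 ≤ D) {k : ℕ} (hk : FormBound (gOne g D) k) : FormBound g k := by
  classical
  obtain ⟨γ, hγ⟩ := hk
  by_cases hex : ∃ B₀, AForm g B₀
  swap
  · exact ⟨fun _ => 0, fun B hB => absurd ⟨B, hB⟩ hex⟩
  obtain ⟨B₀, hB₀⟩ := hex
  set θ := splitEquiv g hD
  have hpow : gRest g D ^ N = 1 := by
    refine LinearMap.ext fun x => Subtype.ext ?_
    have h : ∀ j (z : rest g D), (((gRest g D) ^ j) z : V) = (g ^ j) (z : V) := fun j => by
      induction j with
      | zero => simp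
      | succ j ih =>
        intro z
        rw [pow_succ, Module.End.mul_apply, ih, pow_succ, Module.End.mul_apply]
        rfl
    rw [h, hg]
    rfl
  have hres : ∀ B, AForm g B → AForm (gOne g D) (B.compl₁₂ (one1 g D).subtype (one1 g D).subtype) ∧
      IForm 1 (gRest g D) (B.compl₁₂ (rest g D).subtype (rest g D).subtype) ∧
      Eqv g B ((gOne g D).prodMap (gRest g D))
        (prodB (B.compl₁₂ (one1 g D).subtype (one1 g D).subtype) (B.compl₁₂ (rest g D).subtype (rest g D).subtype)) := by
    intro B hB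
    have ho := fun (a : one1 g D) (b : rest g D) => orth hN hg hB.toIForm a.2 b.2
    have hθ : ∀ z w : one1 g D × rest g D, B (θ z) (θ w) = B (z.1 : V) w.1 + B (z.2 : V) w.2 := fun z w => by
      simp only [θ, splitEquiv_apply, map_add, LinearMap.add_apply, (ho _ _).1, (ho _ _).2]
      ring
    refine ⟨⟨⟨fun x hx => Subtype.ext (hB.sep _ fun y => ?_), fun x y => hB.sym _ _, fun x y => hB.inv _ _⟩,
      fun x => hB.alt _⟩, ⟨fun x hx => Subtype.ext (hB.sep _ fun y => ?_), fun x y => hB.sym _ _, fun x y => hB.inv _ _⟩,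
      (show Eqv ((gOne g D).prodMap (gRest g D)) _ g B from
        ⟨θ, splitEquiv_comm g hD, fun z w => by rw [hθ]; rfl⟩).symm⟩
    · obtain ⟨⟨u, v⟩, rfl⟩ := θ.surjective y
      rw [show θ (u, v) = (u : V) + v from rfl, map_add, (ho x v).1, add_zero]
      exact hx u
    · obtain ⟨⟨u, v⟩, rfl⟩ := θ.surjective y
      rw [show θ (u, v) = (u : V) + v from rfl, map_add, (ho u x).2, zero_add]
      exact hx v
  refine ⟨fun i => (prodB (γ i) (B₀.compl₁₂ (rest g D).subtype (rest g D).subtype)).compl₁₂ θ.symm.toLinearMap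
    θ.symm.toLinearMap, fun B hB => ?_⟩
  obtain ⟨hA, hR, hE⟩ := hres B hB
  obtain ⟨i, hi⟩ := hγ _ hA
  refine ⟨i, hE.trans ((hi.prod (eqv_of_injective h2 hN hpow (hres B₀ hB₀).2.1 hR (gRest_injective g hD hD1))).trans
    ⟨θ, splitEquiv_comm g hD, fun z w => ?_⟩)⟩
  show prodB _ _ (θ.symm (θ z)) (θ.symm (θ w)) = _
  rw [θ.symm_apply_apply, θ.symm_apply_apply]

end Cfsg.Lib.Linear.ClassSpTwo
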