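import Cfsg.Agent.Lib.Linear.ClassSpTwo.OBasic
import Cfsg.Agent.Lib.Linear.ClassSpTwo.Split

/-!
# Splitting quadratic spaces at the eigenvalue one

The sign is multiplicative; on the part without the eigenvalue one the quadratic forms are congruent.
-/

set_option autoImplicit false

universe u

namespace Cfsg.Lib.Linear.ClassSpTwo

open Cfsg.Lib
open Cfsg.Lib.Linear.ClassSp (IForm Eqv)

variable {F : Type u} [Field F]
variable {V W U : Type u} [AddCommGroup V] [Module F V] [AddCommGroup W] [Module F W] [AddCommGroup U] [Module F U]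
variable {g : Module.End F V} {B : LinearMap.BilinForm F V} {Q : V → F}
variable {g' : Module.End F W} {B' : LinearMap.BilinForm F W} {Q' : W → F}

theorem OEqv.symm (h : OEqv g Q g' Q') : OEqv g' Q' g Q := by
  obtain ⟨θ, h1, h2⟩ := h
  exact ⟨θ.symm, fun x => θ.injective (by rw [θ.apply_symm_apply, h1, θ.apply_symm_apply]),
    fun x => by rw [← h2, θ.apply_symm_apply]⟩

theorem OEqv.trans {g'' : Module.End F U} {Q'' : U → F} (h : OEqv g Q g' Q') (h' : OEqv g' Q' g'' Q'') :
    OEqv g Q g'' Q'' := by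
  obtain ⟨θ, h1, h2⟩ := h
  obtain ⟨η, k1, k2⟩ := h'
  exact ⟨θ.trans η, fun x => by simp [h1, k1], fun x => by simp [k2, h2]⟩

theorem OEqv.sgn_eq (h : OEqv g Q g' Q') : sgn Q = sgn Q' := by
  obtain ⟨θ, -, h2⟩ := h
  exact sgn_equiv θ.toEquiv h2

theorem OSys.q_zero (h : OSys g B Q) : Q 0 = 0 := by
  have := h.qsmul 0 0
  simpa using this

theorem OSys.exists_pow [Finite F] [FiniteDimensional F V] (h : OSys g B Q) : ∃ N, 1 ≤ N ∧ g ^ N = 1 := by
  haveI : Finite V := Module.finite_of_finite F
  haveI : Finite (Module.End F V) := Finite.of_injective (fun f => (f : V → V)) DFunLike.coe_injective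
  have hinj : Function.Injective g := fun x y hxy => sub_eq_zero.1 (h.sep _ fun z => by
    rw [← h.inv, map_sub, hxy, sub_self, map_zero, LinearMap.zero_apply])
  obtain ⟨U, hU⟩ := (Module.End.isUnit_iff g).2 ⟨hinj, Finite.injective_iff_surjective.1 hinj⟩
  exact ⟨orderOf U, orderOf_pos U, by rw [← hU, ← Units.val_pow_eq_pow_val, pow_orderOf_eq_one, Units.val_one]⟩

/-- Without the eigenvalue one a linear intertwiner gives an isometric one. -/
theorem rest_oeqv [Finite F] [FiniteDimensional F V] (h2 : (2 : F) = 0) (h : OSys g B Q) (h' : OSys g' B' Q')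
    (hinj : Function.Injective ((g - 1 : Module.End F V) : V → V)) (η : V ≃ₗ[F] W) (hη : ∀ x, η (g x) = g' (η x)) :
    OEqv g Q g' Q' := by
  obtain ⟨N, hN, hg⟩ := h.exists_pow
  have hB' : IForm 1 g (B'.compl₁₂ η.toLinearMap η.toLinearMap) := ⟨fun x hx => η.injective (by
      rw [map_zero]
      refine h'.sep _ fun y => ?_
      rw [← η.apply_symm_apply y]
      exact hx _),
    fun x y => h'.sym _ _, fun x y => by
      show B' (η (g x)) (η (g y)) = _
      rw [hη, hη, h'.inv]
      rfl⟩
  obtain ⟨θ, h1, h3⟩ := eqv_of_injective h2 hN hg hB' h.toIForm hinj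
  refine ⟨θ.trans η, fun x => by simp [h1, hη], fun x => ?_⟩
  have hneg : ∀ z : F, -z = z := fun z => by linear_combination (-z) * h2
  set d : V → F := fun z => Q' (η (θ z)) + Q z with hd
  have hadd : ∀ z w, d (z + w) = d z + d w := fun z w => by
    simp only [hd, map_add, h'.qadd, h.qadd]
    have := h3 z w
    rw [LinearMap.compl₁₂_apply, LinearEquiv.coe_coe] at this
    linear_combination this + (B z w) * h2
  obtain ⟨y, rfl⟩ := LinearMap.injective_iff_surjective.1 hinj x
  have hgy : d (g y) = d y := by simp only [hd, h1, hη, h'.qinv, h.qinv]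
  have hz : d ((g - 1 : Module.End F V) y) = 0 := by
    have e := hadd ((g - 1 : Module.End F V) y) y
    rw [LinearMap.sub_apply, Module.End.one_apply, sub_add_cancel, hgy] at e
    rw [LinearMap.sub_apply, Module.End.one_apply]
    linear_combination -e
  rw [hd] at hz
  simp only [LinearEquiv.trans_apply]
  linear_combination hz - (Q ((g - 1 : Module.End F V) y)) * h2

variable [FiniteDimensional F V] [Finite F]

/-- The two parts. -/
theorem OSys.restrict (h2 : (2 : F) = 0) (h : OSys g B Q) {D : ℕ} (hD : Module.finrank F V ≤ D) :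
    OSys (gOne g D) (B.compl₁₂ (one1 g D).subtype (one1 g D).subtype) (fun x => Q x.val) ∧
      OSys (gRest g D) (B.compl₁₂ (rest g D).subtype (rest g D).subtype) (fun x => Q x.val) ∧
      (∀ z : one1 g D × rest g D, Q (splitEquiv g hD z) = Q z.1.val + Q z.2.val) ∧
      sgn Q = sgn (fun x : one1 g D => Q x.val) * sgn (fun x : rest g D => Q x.val) := by
  obtain ⟨N, hN, hg⟩ := h.exists_pow
  have ho := fun (a : one1 g D) (b : rest g D) => orth hN hg h.toIForm a.2 b.2
  have hsplit : ∀ z : one1 g D × rest g D, Q (splitEquiv g hD z) = Q z.1.val + Q z.2.val := fun z => by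
    rw [splitEquiv_apply, h.qadd, (ho _ _).1, add_zero]
  refine ⟨⟨⟨⟨fun x hx => Subtype.ext (h.sep _ fun y => ?_), fun x y => h.sym _ _, fun x y => h.inv _ _⟩,
      fun x => h.alt _⟩, fun c x => h.qsmul _ _, fun x y => h.qadd _ _, fun x => h.qinv _⟩,
    ⟨⟨⟨fun x hx => Subtype.ext (h.sep _ fun y => ?_), fun x y => h.sym _ _, fun x y => h.inv _ _⟩,
      fun x => h.alt _⟩, fun c x => h.qsmul _ _, fun x y => h.qadd _ _, fun x => h.qinv _⟩, hsplit, ?_⟩
  · obtain ⟨⟨a, b⟩, rfl⟩ := (splitEquiv g hD).surjective y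
    rw [splitEquiv_apply, map_add, (ho x b).1, add_zero]
    exact hx a
  · obtain ⟨⟨a, b⟩, rfl⟩ := (splitEquiv g hD).surjective y
    rw [splitEquiv_apply, map_add, (ho a x).2, zero_add]
    exact hx b
  · haveI : Finite V := Module.finite_of_finite F
    rw [← sgn_prod h2]
    exact (sgn_equiv (splitEquiv g hD).toEquiv hsplit).symm

variable [FiniteDimensional F W]

/-- Isometric parts give isometric spaces. -/
theorem oeqv_of_parts (h2 : (2 : F) = 0) (h : OSys g B Q) (h' : OSys g' B' Q') {D : ℕ}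
    (hD : Module.finrank F V ≤ D) (hD' : Module.finrank F W ≤ D)
    (e1 : OEqv (gOne g D) (fun x => Q x.val) (gOne g' D) (fun x => Q' x.val))
    (e2 : OEqv (gRest g D) (fun x => Q x.val) (gRest g' D) (fun x => Q' x.val)) : OEqv g Q g' Q' := by
  obtain ⟨θ, a1, a2⟩ := e1
  obtain ⟨η, b1, b2⟩ := e2
  refine ⟨((splitEquiv g hD).symm.trans (θ.prodCongr η)).trans (splitEquiv g' hD'), fun x => ?_, fun x => ?_⟩
  · obtain ⟨z, rfl⟩ := (splitEquiv g hD).surjective x
    simp only [LinearEquiv.trans_apply, ← splitEquiv_comm g hD, LinearEquiv.symm_apply_apply]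
    rw [← splitEquiv_comm g' hD']
    exact congrArg _ (Prod.ext (a1 z.1) (b1 z.2))
  · obtain ⟨z, rfl⟩ := (splitEquiv g hD).surjective x
    simp only [LinearEquiv.trans_apply, LinearEquiv.symm_apply_apply]
    rw [(h'.restrict h2 hD').2.2.1, (h.restrict h2 hD).2.2.1]
    exact congrArg₂ (· + ·) (a2 z.1) (b2 z.2)

end Cfsg.Lib.Linear.ClassSpTwo
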