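import Cfsg.Agent.Lib.Linear.ClassSpTwo.Basic
import Cfsg.Agent.Lib.Linear.UniTwo.Profile
import Cfsg.Agent.Lib.Linear.UniTwo.Numeric

/-!
# Unipotent classes of symplectic groups in characteristic two

At most `w μ` congruence classes of invariant alternating forms on a unipotent module of type `μ`; the
weighted sum of all `w μ` is at most `15.2`.
-/

set_option autoImplicit false

universe u

namespace Cfsg.Lib.Linear.ClassSpTwo

open Polynomial UniTwo

/-- The number of normal forms of type `μ`. -/
def w {D : ℕ} (μ : Fin D → ℕ) : ℕ :=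
  ((words 1 D ((∑ j, (j.val + 1) * μ j) / 2) false ++ words 1 D ((∑ j, (j.val + 1) * μ j) / 2) true).filter
    fun l => decide (∀ j : Fin D, profile l (j.val + 1) = μ j)).length

theorem sum_filter_le {α β : Type*} [DecidableEq β] (s : Finset β) (f : α → β → Prop) [∀ a b, Decidable (f a b)]
    (hf : ∀ a b b', b ∈ s → b' ∈ s → f a b → f a b' → b = b') (L : List α) :
    ∑ b ∈ s, (L.filter fun a => decide (f a b)).length ≤ L.length := by
  induction L with
  | nil => simp
  | cons a L ih =>
    rw [Finset.sum_congr rfl fun b _ => show ((a :: L).filter fun a => decide (f a b)).length =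
        (if f a b then 1 else 0) + (L.filter fun a => decide (f a b)).length by
      by_cases h : f a b <;> simp [h, Nat.add_comm], Finset.sum_add_distrib, List.length_cons, Nat.add_comm]
    refine Nat.add_le_add ih ?_
    rw [← Finset.card_filter]
    exact Finset.card_le_one.2 fun b hb b' hb' => hf a b b' (Finset.mem_filter.1 hb).1 (Finset.mem_filter.1 hb').1
      (Finset.mem_filter.1 hb).2 (Finset.mem_filter.1 hb').2

theorem sum_w_le (D m : ℕ) : ∑ μ ∈ muSet D m, w μ ≤ cnt D m false + cnt D m true := by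
  classical
  rw [cnt, cnt, ← List.length_append,
    Finset.sum_congr rfl (g := fun μ => ((words 1 D m false ++ words 1 D m true).filter
      fun l => decide (∀ j : Fin D, profile l (j.val + 1) = μ j)).length) fun μ hμ => by
        rw [w, mem_muSet.1 hμ, Nat.mul_div_cancel_left _ two_pos]]
  exact sum_filter_le (muSet D m) (fun l μ => ∀ j : Fin D, profile l (j.val + 1) = μ j)
    (fun l μ μ' _ _ h h' => funext fun j => (h j).symm.trans (h' j)) _

/-- The weighted number of normal forms is at most `15.2`. -/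
theorem w_sum_le (D n : ℕ) :
    5 * ∑ m ∈ Finset.range (n + 1), (∑ μ ∈ muSet D m, w μ) * 2 ^ (n - m) ≤ 76 * 2 ^ n := by
  have h1 := UniTwo.sum_cnt_le D (n + 1)
  have h2 : ((5 * ∑ m ∈ Finset.range (n + 1), (cnt D m false + cnt D m true) * 2 ^ (n - m) : ℕ) : ℚ) ≤
      ((76 * 2 ^ n : ℕ) : ℚ) := by
    have h3 : ∀ m ∈ Finset.range (n + 1), ((cnt D m false + cnt D m true : ℕ) : ℚ) * 2 ^ (n - m) =
        2 ^ n * (((cnt D m false + cnt D m true : ℕ) : ℚ) / 2 ^ m) := fun m hm => by
      obtain ⟨k, rfl⟩ : ∃ k, n = m + k := ⟨n - m, by rw [Finset.mem_range] at hm; omega⟩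
      rw [Nat.add_sub_cancel_left, pow_add]
      field_simp
    have h4 := mul_le_mul_of_nonneg_left h1 (show (0 : ℚ) ≤ 5 * 2 ^ n by positivity)
    rw [Nat.cast_mul, Nat.cast_sum, Nat.cast_mul, Nat.cast_pow]
    simp only [Nat.cast_mul, Nat.cast_pow, Nat.cast_ofNat]
    rw [Finset.sum_congr rfl h3, ← Finset.mul_sum]
    linarith
  refine le_trans (Nat.mul_le_mul_left 5 (Finset.sum_le_sum fun m _ => Nat.mul_le_mul_right _ (sum_w_le D m))) ?_
  exact_mod_cast h2

theorem telescope (r : ℕ → ℤ) : ∀ D : ℕ, ∑ e ∈ Finset.range D, ((e : ℤ) + 1) * (r e + r (e + 2) - 2 * r (e + 1)) =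
    r 0 - ((D : ℤ) + 1) * r D + D * r (D + 1)
  | 0 => by simp
  | D + 1 => by rw [Finset.sum_range_succ, telescope r D]; push_cast; ring

variable {F : Type u} [Field F] {V : Type u} [AddCommGroup V] [Module F V]

/-- At most `w μ` classes of invariant alternating forms on a unipotent module of type `μ`. -/
theorem unip_bound [Finite F] (h2 : (2 : F) = 0) [FiniteDimensional F V] (g : Module.End F V) (D : ℕ)
    (hg : (g - 1) ^ D = 0) : FormBound g (w (mu g D)) := by
  classical
  haveI : CharP F 2 := CharTwo.of_one_ne_zero_of_two_eq_zero one_ne_zero h2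
  obtain ⟨a, ha⟩ := exists_not_artin (F := F)
  set n : Module.End F V := g - 1 with hn
  have hgn : ∀ x, g x = x + n x := fun x => by simp [hn]
  have hsys : ∀ B, AForm g B → IsSys 1 n B fun x => B x (n x) := fun B hB => by
    have hadj : ∀ x y, B (n x) y + B x (n y) + B (n x) (n y) = 0 := fun x y => by
      have h1 := hB.inv x y
      simp only [hgn, map_add, LinearMap.add_apply] at h1
      linear_combination h1
    have hsym : ∀ x y, B y x = B x y := fun x y => by rw [hB.sym, one_mul]
    refine ⟨le_rfl, hB.alt, hB.sep, hadj, fun c x => by simp [pow_two, mul_assoc], fun x y => ?_,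
      fun x => by simp⟩
    simp only [pow_one, map_add, LinearMap.add_apply, hsym (n x) y]
    refine CharTwo.add_eq_zero.1 ?_
    linear_combination hadj x y + CharTwo.add_self_eq_zero (B x (n x)) + CharTwo.add_self_eq_zero (B y (n y))
  have hrk : ∀ e, ClassSp.rk g ((X - C 1) ^ e) = rkOn n (⊤ : Submodule F V) e := fun e => by
    have h1 : aeval g ((X - C 1) ^ e : F[X]) = n ^ e := by
      rw [map_pow, map_sub, aeval_X, aeval_C, map_one]
    rw [ClassSp.rk, h1, rkOn, Submodule.map_top]
  set μ := mu g D with hμ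
  set L := ((words 1 D ((∑ j, (j.val + 1) * μ j) / 2) false ++ words 1 D ((∑ j, (j.val + 1) * μ j) / 2) true).filter
    fun l => decide (∀ j : Fin D, profile l (j.val + 1) = μ j)) with hL
  let Good : List Word → LinearMap.BilinForm F V → Prop := fun l B =>
    AForm g B ∧ Real 1 n B (fun x => B x (n x)) a l ⊤
  have hLw : L.length = w μ := rfl
  refine ⟨fun i => if h : ∃ B, Good (L[i.val]'(by rw [hLw]; exact i.isLt)) B then h.choose else 0, fun B hB => ?_⟩
  have h := hsys B hB
  obtain ⟨hd, hfr⟩ := even_finrank hB.alt _ (⊤ : Submodule F V) rfl (fun x _ hx => h.sep x fun y => hx y trivial) h.sep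
  obtain ⟨o, ho⟩ : ∃ o : Bool, o = true ↔ St 1 n (fun x => B x (n x)) D (⊤ : Submodule F V) :=
    ⟨decide _, decide_eq_true_iff⟩
  obtain ⟨l, hl, hr⟩ := exists_word h ha D hd ⊤ (sub_top h) (by omega) (fun x _ => by rw [hg]; rfl) o ho
  have hprof : ∀ j : Fin D, profile l (j.val + 1) = μ j := fun j => by
    have h1 := rk_second_diff h l hr j.val
    rw [hμ, mu, ClassSp.mult, hrk, hrk, hrk, Nat.add_sub_cancel]
    rw [show (rkOn n ⊤ (j.val + 2) : ℤ) = rkOn n ⊤ (j.val + 1 + 1) from rfl] at h1
    omega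
  have hsize : ∑ j, (j.val + 1) * μ j = 2 * hd := by
    have h1 := telescope (fun e => (rkOn n (⊤ : Submodule F V) e : ℤ)) D
    rw [Finset.sum_congr rfl fun e _ => by rw [rk_second_diff h l hr e], ← Fin.sum_univ_eq_sum_range
      (fun e => ((e : ℤ) + 1) * profile l (e + 1))] at h1
    have h0 : ∀ e, D ≤ e → rkOn n (⊤ : Submodule F V) e = 0 := fun e he => by
      have hz : n ^ e = 0 := by rw [← Nat.sub_add_cancel he, pow_add, hg, mul_zero]
      rw [rkOn, hz, Submodule.map_zero]
      exact finrank_bot F V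
    have hr0 : rkOn n (⊤ : Submodule F V) 0 = 2 * hd := by
      have hid : (⊤ : Submodule F V).map (n ^ 0) = ⊤ := by rw [pow_zero]; exact Submodule.map_id _
      rw [rkOn, hid]
      omega
    simp only [h0 D le_rfl, h0 (D + 1) (Nat.le_succ D), hr0, Nat.cast_zero, mul_zero, sub_zero, add_zero] at h1
    simp only [hprof] at h1
    exact_mod_cast h1
  have hlL : l ∈ L := by
    rw [hL, List.mem_filter, hsize, Nat.mul_div_cancel_left _ two_pos]
    refine ⟨?_, decide_eq_true hprof⟩
    cases o with
    | true => exact List.mem_append_right _ hl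
    | false => exact List.mem_append_left _ hl
  obtain ⟨i, hi, hil⟩ := List.getElem_of_mem hlL
  refine ⟨⟨i, by rw [← hLw]; exact hi⟩, ?_⟩
  have hex : ∃ B, Good (L[i]) B := ⟨B, hB, by rwa [hil]⟩
  simp only [dif_pos hex]
  obtain ⟨hB', hr'⟩ := hex.choose_spec
  generalize hex.choose = B' at hB' hr' ⊢
  obtain ⟨θ, hθ, hθB, -⟩ := eqv_of_real h (hsys _ hB') hr (by rwa [hil] at hr')
  exact ⟨θ, fun x => by rw [hgn, map_add, hθ, ← hgn], hθB⟩

end Cfsg.Lib.Linear.ClassSpTwo
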