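import Cfsg.Agent.Lib.Linear.ClassSpTwo.Count
import Cfsg.Agent.Lib.Linear.ClassSpTwo.ORest
import Cfsg.Agent.Lib.Linear.ClassSpTwo.Unip
import Cfsg.Agent.Lib.Linear.ClassSp.FibreOrth
import Cfsg.Agent.Lib.Linear.ClassSpP.Main

/-!
# The key of an isometry: the tuple without the root one

It determines the module structure of the part without the eigenvalue one.
-/

set_option autoImplicit false
set_option maxHeartbeats 1000000

universe u

namespace Cfsg.Lib.Linear.ClassSpTwo

open Polynomial Matrix Cfsg.Lib Cfsg.Lib.Linear.ClassNumberGL Cfsg.Lib.Linear.ClassU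
open Cfsg.Lib.Linear.ClassSp (σ₁ rk)
open UniqueFactorizationMonoid (normalizedFactors normalizedFactors_prod_eq normalizedFactors_mul normalizedFactors_pow
  normalizedFactors_irreducible)

variable {F : Type u} [Field F]

theorem nf_prod [DecidableEq F] {S : Multiset F[X]} (hS : ∀ x ∈ S, x.Monic ∧ Irreducible x) :
    normalizedFactors S.prod = S := by
  rw [normalizedFactors_prod_eq S fun x hx => (hS x hx).2]
  exact (Multiset.map_congr rfl fun x hx => (hS x hx).1.normalize_eq_self).trans (Multiset.map_id' S)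

variable {V : Type u} [AddCommGroup V] [Module F V]

/-- The data attached to an isometry: half the rest of its tuple and half the dimension at the eigenvalue one. -/
abbrev Key (F : Type u) [Field F] (n : ℕ) : Type u := Σ m : Fin (n + 1), Tup F (n + n) (n - m.val)

open scoped Classical in
/-- `k` is the key of `g`. -/
def IsKey {n : ℕ} (g : Module.End F V) (k : Key F n) : Prop :=
  Module.finrank F (one1 g (n + n)) = 2 * k.1.val ∧ ∃ R : Fin (n + n) → F[X],
    (∀ j, IsSR (σ₁ F) (R j) ∧ (R j).eval 1 ≠ 0 ∧ half (R j) = k.2.1 j) ∧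
    ∀ Y : F[X], Y.Monic → Irreducible Y → Y ≠ X - C 1 → ∀ i,
      rk g (Y ^ i) = rk g (Y ^ (i + 1)) +
        Y.natDegree * ∑ j ∈ Finset.univ.filter (fun j : Fin (n + n) => i ≤ j.val), (normalizedFactors (R j)).count Y

variable [FiniteDimensional F V] [Fintype F] {B : LinearMap.BilinForm F V} {Q : V → F} {g : Module.End F V} {n : ℕ}

theorem exists_key (h2 : (2 : F) = 0) (h : OSys g B Q) (hn : 1 ≤ n) (hfr : Module.finrank F V = n + n) :
    ∃ k : Key F n, IsKey g k := by
  classical
  obtain ⟨N, hN, hgN⟩ := h.exists_pow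
  let b : Module.Basis (Fin (n + n)) F V := Module.finBasisOfFinrankEq F V hfr
  set M := LinearMap.toMatrix b b g with hM
  have hgu : IsUnit g := by
    refine ⟨⟨g, g ^ (N - 1), ?_, ?_⟩, rfl⟩
    · rw [← pow_succ', Nat.sub_add_cancel hN, hgN]
    · rw [← pow_succ, Nat.sub_add_cancel hN, hgN]
  have hMu : IsUnit M := by
    have := hgu.map (LinearMap.toMatrixAlgEquiv b).toMonoidHom
    exact this
  obtain ⟨A, hA⟩ := hMu
  have hJd : (LinearMap.BilinForm.toMatrix b B).det ≠ 0 :=
    (LinearMap.BilinForm.nondegenerate_iff_det_ne_zero b).1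
      ⟨h.sep, fun y hy => h.sep y fun x => by rw [h.sym, hy, mul_zero]⟩
  set J : GL (Fin (n + n)) F := GeneralLinearGroup.mkOfDetNeZero _ hJd with hJ
  have hAJ : A ∈ ClassSp.isoM J := by
    rw [ClassSp.mem_isoM, hA]
    show Mᵀ * LinearMap.BilinForm.toMatrix b B * M = LinearMap.BilinForm.toMatrix b B
    rw [hM, ← LinearMap.BilinForm.toMatrix_comp b b B g g]
    exact congrArg _ (LinearMap.ext₂ fun x y => h.inv x y)
  obtain ⟨t, ht⟩ := exists_isTupleOf A
  have hsr : ∀ j, IsSR (σ₁ F) (t.1 j) := ClassSp.isSR_tupleO hAJ ht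
  have hθ : ∀ x, b.equivFun (g x) = Matrix.toLinAlgEquiv' A.1 (b.equivFun x) := fun x => by
    rw [hA, hM, Matrix.toLinAlgEquiv'_apply, Module.Basis.equivFun_apply, Module.Basis.equivFun_apply,
      LinearMap.toMatrix_mulVec_repr]
  have hrk : ∀ f, rk g f = (aeval A.1 f).rank := fun f => by
    rw [ClassSp.rk_equiv b.equivFun hθ, rk, Matrix.rank, aeval_algHom_apply]
    rfl
  -- the rest of the tuple
  have hdec : ∀ j, ∃ R : F[X], t.1 j = (X - C 1) ^ muT t j * R ∧ IsSR (σ₁ F) R ∧ R.eval 1 ≠ 0 ∧
      (t.1 j).natDegree = muT t j + R.natDegree := fun j => by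
    have hj := hsr j
    obtain ⟨R, hR, hnd⟩ := exists_eq_pow_rootMultiplicity_mul_and_not_dvd (t.1 j) hj.1.ne_zero 1
    have hL := ClassSp.isSR_pow (ClassSp.isSR_X_sub_C (one_mul (1 : F))) (rootMultiplicity 1 (t.1 j))
    have hRS : IsSR (σ₁ F) R := hL.of_mul (hR ▸ hj)
    refine ⟨R, hR, hRS, fun h0 => hnd (dvd_iff_isRoot.2 h0), ?_⟩
    conv_lhs => rw [hR, hL.1.natDegree_mul hRS.1, natDegree_pow, natDegree_X_sub_C, mul_one]
    rfl
  choose R hRt hRS hR1 hRd using hdec
  -- the dimension at one
  have hfin : Module.finrank F V ≤ n + n := hfr.le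
  have hmult : ∀ j : Fin (n + n), ClassSp.mult g 1 (j.val + 1) = muT t j := fun j => by
    rw [ClassSp.mult_equiv b.equivFun hθ, ClassSp.mult_tuple ht 1 j]
    rfl
  have hdim : (Module.finrank F (one1 g (n + n)) : ℤ) = ∑ j : Fin (n + n), ((j.val : ℤ) + 1) * muT t j := by
    have h1 := telescope (fun e => (rk g ((X - C 1) ^ e) : ℤ)) (n + n)
    rw [← Fin.sum_univ_eq_sum_range (fun e => ((e : ℤ) + 1) * ((rk g ((X - C 1) ^ e) : ℤ) +
      rk g ((X - C 1) ^ (e + 2)) - 2 * rk g ((X - C 1) ^ (e + 1))))] at h1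
    rw [Finset.sum_congr rfl fun (j : Fin (n + n)) _ => show ((j.val : ℤ) + 1) * ((rk g ((X - C 1) ^ j.val) : ℤ) +
        rk g ((X - C 1) ^ (j.val + 2)) - 2 * rk g ((X - C 1) ^ (j.val + 1))) = ((j.val : ℤ) + 1) * muT t j by
      rw [← hmult j, ClassSp.mult, Nat.add_sub_cancel]] at h1
    have haev : ∀ e, aeval g ((X - C 1 : F[X]) ^ e) = (g - 1) ^ e := fun e => by
      rw [map_pow, map_sub, aeval_X, aeval_C, map_one]
    have hst : rk g ((X - C 1 : F[X]) ^ (n + n + 1)) = rk g ((X - C 1) ^ (n + n)) := by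
      refine ClassSp.rk_of_stable fun x hx => ?_
      rw [haev] at hx ⊢
      have h3 : x ∈ LinearMap.ker ((g - 1) ^ (n + n + 1)) := hx
      rw [Module.End.ker_pow_eq_ker_pow_finrank_of_le (by omega),
        ← Module.End.ker_pow_eq_ker_pow_finrank_of_le hfin] at h3
      exact h3
    have h3 := ClassSp.rk_add_ker g ((X - C 1 : F[X]) ^ (n + n))
    rw [haev, show LinearMap.ker ((g - 1) ^ (n + n)) = one1 g (n + n) from rfl] at h3
    have h0 : rk g ((X - C 1 : F[X]) ^ 0) = n + n := by
      rw [pow_zero, rk, map_one, Module.End.one_eq_id, LinearMap.range_id, finrank_top, hfr]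
    rw [h1, hst, h0]
    push_cast
    linarith [congrArg (fun z : ℕ => (z : ℤ)) h3, congrArg (fun z : ℕ => (z : ℤ)) hfr]
  have hdimN : Module.finrank F (one1 g (n + n)) = ∑ j : Fin (n + n), (j.val + 1) * muT t j := by exact_mod_cast hdim
  have hweight : ∑ j, (j.val + 1) * muT t j + 2 * ∑ j, (j.val + 1) * (half (R j)).natDegree = 2 * n := by
    have h1 := t.2.2
    rw [Finset.sum_congr rfl fun j _ => show (j.val + 1) * (t.1 j).natDegree =
      (j.val + 1) * muT t j + 2 * ((j.val + 1) * (half (R j)).natDegree) by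
        rw [hRd j, ← (half_spec h2 (hRS j) (hR1 j)).2.2.1]; ring] at h1
    rw [Finset.sum_add_distrib, ← Finset.mul_sum] at h1
    linarith
  refine ⟨⟨⟨n - ∑ j, (j.val + 1) * (half (R j)).natDegree, by omega⟩, ⟨fun j => half (R j),
      fun j => ⟨(half_spec h2 (hRS j) (hR1 j)).1, (half_spec h2 (hRS j) (hR1 j)).2.1⟩, by
        show ∑ j, (j.val + 1) * (half (R j)).natDegree = n - (n - ∑ j, (j.val + 1) * (half (R j)).natDegree); omega⟩⟩,
    by show _ = 2 * (n - _); omega, R, fun j => ⟨hRS j, hR1 j, rfl⟩, fun Y hY hYi hY1 i => ?_⟩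
  obtain ⟨ι, hι, p, e, hp, he, hform, htp⟩ := ht
  rw [hrk, hrk, rank_step hp hform hY hYi i]
  congr 2
  rw [Finset.card_eq_sum_card_fiberwise (t := Finset.univ.filter (fun j : Fin (n + n) => i ≤ j.val))
    (f := fun x => (⟨e x - 1, by have := he x; omega⟩ : Fin (n + n))) fun x hx => by
      have := (Finset.mem_filter.1 hx).2
      exact Finset.mem_filter.2 ⟨Finset.mem_univ _, show i ≤ e x - 1 by omega⟩]
  refine Finset.sum_congr rfl fun j hj => ?_
  have hij := (Finset.mem_filter.1 hj).2
  have hnf : normalizedFactors (t.1 j) =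
      Multiset.replicate (muT t j) (X - C 1) + normalizedFactors (R j) := by
    rw [hRt j, normalizedFactors_mul (pow_ne_zero _ (X_sub_C_ne_zero 1)) (hRS j).1.ne_zero, normalizedFactors_pow,
      normalizedFactors_irreducible (irreducible_X_sub_C 1), (monic_X_sub_C (1 : F)).normalize_eq_self,
      Multiset.nsmul_singleton]
  have hcount := congrArg (Multiset.count Y) hnf
  rw [Multiset.count_add, Multiset.count_replicate, if_neg (Ne.symm hY1), zero_add] at hcount
  rw [← hcount, htp j, nf_prod fun x hx => by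
    obtain ⟨z, -, rfl⟩ := Multiset.mem_map.1 hx
    exact hp z]
  rw [Multiset.count_map, Multiset.filter_filter, Finset.card_def, Finset.filter_val, Finset.filter_val,
    Multiset.filter_filter]
  refine congrArg _ (Multiset.filter_congr fun x _ => ?_)
  simp only [Fin.ext_iff, Fin.val_mk] at *
  have := he x
  constructor
  · rintro ⟨ha, hb, hc⟩
    exact ⟨hb.symm, by omega⟩
  · rintro ⟨ha, hb⟩
    exact ⟨show e x - 1 = j.val by omega, ha.symm, by omega⟩

variable {W : Type u} [AddCommGroup W] [Module F W] [FiniteDimensional F W] {g' : Module.End F W}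

/-- The key determines the module without the eigenvalue one. -/
theorem IsKey.exists_equiv {k : Key F n} (hn : 1 ≤ n) (hk : IsKey g k) (hk' : IsKey g' k) (h2 : (2 : F) = 0)
    (hfr : Module.finrank F V = n + n) (hfr' : Module.finrank F W = n + n) :
    ∃ η : rest g (n + n) ≃ₗ[F] rest g' (n + n), ∀ x, η (gRest g (n + n) x) = gRest g' (n + n) (η x) := by
  classical
  obtain ⟨hd, R, hR, hstep⟩ := hk
  obtain ⟨hd', R', hR', hstep'⟩ := hk'
  obtain rfl : R' = R := funext fun j =>
    (half_spec h2 (hR j).1 (hR j).2.1).2.2.2 _ (hR' j).1 (hR' j).2.1 ((hR' j).2.2.trans (hR j).2.2.symm)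
  have hsplit : ∀ {U : Type u} [AddCommGroup U] [Module F U] [FiniteDimensional F U] (f : Module.End F U)
      (hf : Module.finrank F U ≤ n + n) (P : F[X]), rk f P = rk (gOne f (n + n)) P + rk (gRest f (n + n)) P :=
    fun f hf P => by rw [← ClassSp.rk_equiv (splitEquiv f hf) (splitEquiv_comm f hf), ClassSp.rk_prod]
  have hfin : Module.finrank F (rest g (n + n)) = Module.finrank F (rest g' (n + n)) := by
    have e1 := (splitEquiv g hfr.le).finrank_eq
    have e2 := (splitEquiv g' hfr'.le).finrank_eq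
    rw [Module.finrank_prod] at e1 e2
    omega
  refine ClassSp.exists_equiv_of_rk hfin fun Y hY hYi i => ?_
  by_cases hY1 : Y = X - C 1
  · have hfull : ∀ {U : Type u} [AddCommGroup U] [Module F U] [FiniteDimensional F U] (f : Module.End F U)
        (_ : Module.finrank F U ≤ n + n), rk (gRest f (n + n)) ((X - C (1 : F)) ^ i) =
          Module.finrank F (rest f (n + n)) := fun f hf => by
      have hinj : Function.Injective (aeval (gRest f (n + n)) (X - C (1 : F))) := by
        have h := gRest_injective f hf (by omega)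
        rwa [map_sub, aeval_X, aeval_C, map_one]
      rw [rk, map_pow, LinearMap.range_eq_top.2, finrank_top]
      rw [Module.End.coe_pow]
      exact (LinearMap.injective_iff_surjective.1 hinj).iterate i
    rw [hY1, hfull g hfr.le, hfull g' hfr'.le, hfin]
  · have hone : ∀ {U : Type u} [AddCommGroup U] [Module F U] [FiniteDimensional F U] (f : Module.End F U) (k : ℕ),
        rk (gOne f (n + n)) (Y ^ k) = Module.finrank F (one1 f (n + n)) := fun f k =>
      ClassSpP.rk_of_coprime (gOne_nil f (n + n)) (IsCoprime.pow (hYi.coprime_iff_not_dvd.2 fun hdv => hY1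
        (eq_of_monic_of_associated hY (monic_X_sub_C 1) (hYi.associated_of_dvd (irreducible_X_sub_C 1) hdv))))
    have hrk : rk g (Y ^ i) = rk g' (Y ^ i) := by
      induction i with
      | zero =>
        rw [rk, rk, pow_zero, map_one, map_one, Module.End.one_eq_id, Module.End.one_eq_id, LinearMap.range_id,
          LinearMap.range_id, finrank_top, finrank_top, hfr, hfr']
      | succ i ih =>
        have a := hstep Y hY hYi hY1 i
        have b := hstep' Y hY hYi hY1 i
        omega
    have a := hsplit g hfr.le (Y ^ i)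
    have b := hsplit g' hfr'.le (Y ^ i)
    rw [hone] at a b
    omega

end Cfsg.Lib.Linear.ClassSpTwo
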