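import Cfsg.Agent.Lib.Linear.ClassSpTwo.ORest
import Cfsg.Agent.Lib.Linear.ClassSpTwo.OForms
import Cfsg.Agent.Lib.Linear.OrthBasic
import Cfsg.Agent.Lib.Linear.ClassSp.LowerOrth

/-!
# The lower bound for the class number of an orthogonal group in characteristic two

For a monic `S` there is an isometry `g` such that the pseudo inverse `v` of `g + g⁻¹` has characteristic
polynomial `S ^ 2`; the sign of the space is `psi` of the second coefficient, or arbitrary if `S 0 = 0`.
-/

set_option autoImplicit false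
set_option maxHeartbeats 1000000

universe u

namespace Cfsg.Lib.Linear.ClassSpTwo

open Polynomial Cfsg.Lib
open scoped Matrix
open Cfsg.Lib.Linear.ClassSp (prodB prodB_apply)

variable {F : Type u} [Field F]
variable {V W : Type u} [AddCommGroup V] [Module F V] [AddCommGroup W] [Module F W]

/-- `v` is the pseudo inverse of the `w` with `g * w = g ^ 2 + 1`. -/
def PInv (g v : Module.End F V) : Prop :=
  ∃ w : Module.End F V, g * w = g * g + 1 ∧ w * v = v * w ∧ w * v * w = w ∧ v * w * v = v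

theorem pinv_unique {g v v' : Module.End F V} (hg : Function.Injective g) (h : PInv g v) (h' : PInv g v') :
    v = v' := by
  obtain ⟨w, hw, hc, h1, h3⟩ := h
  obtain ⟨w', hw', hc', h1', h3'⟩ := h'
  obtain rfl : w' = w := LinearMap.ext fun x => hg (LinearMap.congr_fun (hw'.trans hw.symm) x)
  have e1 : w' * v = w' * v' := by
    calc w' * v = (w' * v' * w') * v := by rw [h1']
      _ = (w' * v') * (w' * v) := by rw [mul_assoc]
      _ = (v' * w') * (v * w') := by rw [hc', hc]
      _ = v' * (w' * v * w') := by simp only [mul_assoc]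
      _ = w' * v' := by rw [h1, hc']
  calc v = v * (w' * v) := by rw [← mul_assoc, h3]
    _ = v * (w' * v') := by rw [e1]
    _ = (w' * v) * v' := by rw [← mul_assoc, hc]
    _ = (v' * w') * v' := by rw [e1, hc']
    _ = v' := h3'

/-- A space of sign `s` with an isometry belonging to `S`. -/
def Realized (S : F[X]) (s : ℤ) : Prop :=
  ∃ (V : Type u) (_ : AddCommGroup V) (_ : Module F V) (_ : FiniteDimensional F V) (g v : Module.End F V)
    (B : LinearMap.BilinForm F V) (Q : V → F),
    OSys g B Q ∧ Module.finrank F V = 2 * S.natDegree ∧ sgn Q = s ∧ PInv g v ∧ v.charpoly = S ^ 2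

theorem OSys.prod {g : Module.End F V} {B : LinearMap.BilinForm F V} {Q : V → F} {g' : Module.End F W}
    {B' : LinearMap.BilinForm F W} {Q' : W → F} (h : OSys g B Q) (h' : OSys g' B' Q') :
    OSys (g.prodMap g') (prodB B B') (fun x => Q x.1 + Q' x.2) where
  sep x hx := by
    refine Prod.ext (h.sep _ fun y => ?_) (h'.sep _ fun y => ?_)
    · have := hx (y, 0); simpa [prodB_apply] using this
    · have := hx (0, y); simpa [prodB_apply] using this
  sym x y := by rw [prodB_apply, prodB_apply, h.sym, h'.sym]; ring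
  inv x y := by
    rw [prodB_apply, prodB_apply]
    exact congrArg₂ (· + ·) (h.inv _ _) (h'.inv _ _)
  alt x := by rw [prodB_apply, h.alt, h'.alt, add_zero]
  qsmul c x := by
    show Q (c • x.1) + Q' (c • x.2) = _
    rw [h.qsmul, h'.qsmul, mul_add]
  qadd x y := by
    show Q (x.1 + y.1) + Q' (x.2 + y.2) = _
    rw [h.qadd, h'.qadd, prodB_apply]; ring
  qinv x := congrArg₂ (· + ·) (h.qinv _) (h'.qinv _)

variable [Finite F]

theorem realized_one : Realized (1 : F[X]) 1 := by
  refine ⟨PUnit.{u + 1}, inferInstance, inferInstance, inferInstance, 0, 0, 0, fun _ => (0 : F),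
    ⟨⟨⟨fun x _ => Subsingleton.elim _ _, fun _ _ => by simp, fun _ _ => by simp⟩, fun _ => by simp⟩,
      fun _ _ => by simp, fun _ _ => by simp, fun _ => rfl⟩,
    by rw [natDegree_one, Module.finrank_zero_of_subsingleton], ?_,
    ⟨0, LinearMap.ext fun x => Subsingleton.elim _ _, rfl, by simp, by simp⟩, ?_⟩
  · rw [sgn, finsum_unique, psi_zero]
  · have h1 := LinearMap.charpoly_natDegree (0 : Module.End F PUnit.{u + 1})
    rw [Module.finrank_zero_of_subsingleton] at h1
    rw [one_pow]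
    exact (LinearMap.charpoly_monic _).natDegree_eq_zero.1 h1

theorem Realized.mul (h2 : (2 : F) = 0) {S T : F[X]} {s t : ℤ} (hS : S.Monic) (hT : T.Monic) (h : Realized S s)
    (h' : Realized T t) : Realized (S * T) (s * t) := by
  obtain ⟨V, _, _, _, g, v, B, Q, hs, hd, hsg, ⟨w, a1, a2, a3, a4⟩, hc⟩ := h
  obtain ⟨W, _, _, _, g', v', B', Q', hs', hd', hsg', ⟨w', b1, b2, b3, b4⟩, hc'⟩ := h'
  haveI : Finite V := Module.finite_of_finite F
  haveI : Finite W := Module.finite_of_finite F
  refine ⟨V × W, inferInstance, inferInstance, inferInstance, g.prodMap g', v.prodMap v', prodB B B', _, hs.prod hs',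
    by rw [Module.finrank_prod, hd, hd', hS.natDegree_mul hT]; ring, by rw [sgn_prod h2, hsg, hsg'],
    ⟨w.prodMap w', ?_, ?_, ?_, ?_⟩, by rw [LinearMap.charpoly_prodMap, hc, hc', mul_pow]⟩
  · exact LinearMap.ext fun x => Prod.ext (LinearMap.congr_fun a1 x.1) (LinearMap.congr_fun b1 x.2)
  · exact LinearMap.ext fun x => Prod.ext (LinearMap.congr_fun a2 x.1) (LinearMap.congr_fun b2 x.2)
  · exact LinearMap.ext fun x => Prod.ext (LinearMap.congr_fun a3 x.1) (LinearMap.congr_fun b3 x.2)
  · exact LinearMap.ext fun x => Prod.ext (LinearMap.congr_fun a4 x.1) (LinearMap.congr_fun b4 x.2)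

variable [Fintype F]

/-- The root zero: either sign. -/
theorem realized_X (h2 : (2 : F) = 0) (b : F) : Realized (X : F[X]) (Fintype.card F * psi b) := by
  let β : LinearMap.BilinForm F (F × F) :=
    LinearMap.mk₂ F (fun x y => x.1 * y.2 + x.2 * y.1) (fun x x' y => by simp; ring) (fun c x y => by simp; ring)
      (fun x y y' => by simp; ring) (fun c x y => by simp; ring)
  have hβ : ∀ x y, β x y = x.1 * y.2 + x.2 * y.1 := fun x y => rfl
  refine ⟨F × F, inferInstance, inferInstance, inferInstance, 1, 0, β, fun x => x.1 ^ 2 + x.1 * x.2 + b * x.2 ^ 2,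
    ⟨⟨⟨fun x hx => Prod.ext (by simpa [hβ] using hx (0, 1)) (by simpa [hβ] using hx (1, 0)),
      fun x y => by rw [hβ, hβ]; ring, fun x y => rfl⟩, fun x => by rw [hβ]; linear_combination (x.1 * x.2) * h2⟩,
      fun c x => by simp; ring, fun x y => by
        simp only [Prod.fst_add, Prod.snd_add, hβ]; linear_combination (x.1 * y.1 + b * x.2 * y.2) * h2, fun x => rfl⟩,
    by rw [Module.finrank_prod, Module.finrank_self, natDegree_X], ?_, ⟨0, ?_, by simp, by simp, by simp⟩, ?_⟩
  · rw [sgn, finsum_eq_sum_of_fintype, Fintype.sum_prod_type]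
    exact sum_binary h2 b
  · rw [mul_zero, one_mul]
    refine LinearMap.ext fun x => ?_
    show (0 : F × F) = x + x
    rw [← two_smul F x, h2, zero_smul]
  · rw [show (0 : Module.End F (F × F)) = (0 : Module.End F F).prodMap 0 from (LinearMap.ext fun _ => rfl),
      LinearMap.charpoly_prodMap, ← LinearMap.charpoly_toMatrix (0 : Module.End F F) (Module.Basis.singleton (Fin 1) F),
      map_zero, Matrix.charpoly_zero, Fintype.card_fin, pow_one, pow_two]

theorem psi_trace_sq (h2 : (2 : F) = 0) {A : Type u} [Field A] [Finite A] [Algebra F A] (z : A) :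
    psi (Algebra.trace F A (z ^ 2)) = psi (Algebra.trace F A z) := by
  haveI : CharP F 2 := CharTwo.of_one_ne_zero_of_two_eq_zero one_ne_zero h2
  haveI : CharP A 2 := charP_of_injective_algebraMap (algebraMap F A).injective 2
  rw [← psi_sq h2 (Algebra.trace F A z)]
  congr 1
  apply (algebraMap F A).injective
  rw [map_pow (algebraMap F A), FiniteField.algebraMap_trace_eq_sum_pow, FiniteField.algebraMap_trace_eq_sum_pow, CharTwo.sum_sq]
  exact Finset.sum_congr rfl fun i _ => by rw [← pow_mul, ← pow_mul, mul_comm]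

/-- An irreducible polynomial other than `X`. -/
theorem realized_irreducible (h2 : (2 : F) = 0) {P : F[X]} (hP : P.Monic) (hPi : Irreducible P) (h0 : P.coeff 0 ≠ 0) :
    Realized P ((Fintype.card F : ℤ) ^ P.natDegree * psi P.nextCoeff) := by
  classical
  haveI : Fact (Irreducible P) := ⟨hPi⟩
  haveI : Module.Finite F (AdjoinRoot P) := hP.finite_adjoinRoot
  haveI : Finite (AdjoinRoot P) := Module.finite_of_finite F
  letI : Fintype (AdjoinRoot P) := Fintype.ofFinite _
  haveI : CharP F 2 := CharTwo.of_one_ne_zero_of_two_eq_zero one_ne_zero h2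
  haveI : CharP (AdjoinRoot P) 2 := charP_of_injective_algebraMap (algebraMap F (AdjoinRoot P)).injective 2
  set ζ := AdjoinRoot.root P with hζ
  have hζ0 : ζ ≠ 0 := by
    intro hz
    apply h0
    have h := AdjoinRoot.eval₂_root P
    rw [← hζ, hz, eval₂_at_zero] at h
    exact (AdjoinRoot.of P).injective (h.trans (map_zero _).symm)
  set θ := ζ⁻¹ with hθ
  let tr := Algebra.trace F (AdjoinRoot P)
  let χ : AdjoinRoot P → ℤ := fun z => psi (tr z)
  have hnd : ∀ a : AdjoinRoot P, a ≠ 0 → ∃ z, χ (a * z) ≠ 1 := fun a ha => by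
    obtain ⟨c, hc⟩ := exists_psi_neg (F := F) h2
    obtain ⟨y, hy⟩ := Algebra.trace_surjective F (AdjoinRoot P) c
    exact ⟨a⁻¹ * y, by show psi (tr (a * (a⁻¹ * y))) ≠ 1; rw [mul_inv_cancel_left₀ ha, hy, hc]; norm_num⟩
  let β : LinearMap.BilinForm F (AdjoinRoot P × AdjoinRoot P) :=
    LinearMap.mk₂ F (fun x y => tr (x.1 * y.2 + x.2 * y.1)) (fun x x' y => by simp [add_mul, map_add]; ring)
      (fun c x y => by simp [← smul_add, map_smul]) (fun x y y' => by simp [mul_add, map_add]; ring)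
      (fun c x y => by simp [← smul_add, map_smul])
  have hβ : ∀ x y, β x y = tr (x.1 * y.2 + x.2 * y.1) := fun x y => rfl
  have hA2 : (2 : AdjoinRoot P) = 0 := CharTwo.two_eq_zero
  let g : Module.End F (AdjoinRoot P × AdjoinRoot P) :=
    (LinearMap.snd F _ _).prod (LinearMap.fst F _ _ + LinearMap.mulLeft F θ ∘ₗ LinearMap.snd F _ _)
  have hg : ∀ x, g x = (x.2, x.1 + θ * x.2) := fun x => rfl
  refine ⟨AdjoinRoot P × AdjoinRoot P, inferInstance, inferInstance, inferInstance, g,
    (LinearMap.mulLeft F ζ).prodMap (LinearMap.mulLeft F ζ), β,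
    fun x => tr (ζ * x.1 ^ 2 + x.1 * x.2 + ζ * x.2 ^ 2), ⟨⟨⟨fun x hx => ?_, fun x y => ?_, fun x y => ?_⟩, fun x => ?_⟩,
      fun c x => ?_, fun x y => ?_, fun x => ?_⟩, ?_, ?_,
    ⟨(LinearMap.mulLeft F θ).prodMap (LinearMap.mulLeft F θ), ?_, ?_, ?_, ?_⟩, ?_⟩
  · have hsep : ∀ a : AdjoinRoot P, (∀ z, tr (a * z) = 0) → a = 0 := fun a ha => by
      by_contra hne
      obtain ⟨z, hz⟩ := hnd a hne
      exact hz (by show psi (tr (a * z)) = 1; rw [ha, psi_zero])
    refine Prod.ext (hsep _ fun z => ?_) (hsep _ fun z => ?_)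
    · simpa [hβ] using hx (0, z)
    · simpa [hβ] using hx (z, 0)
  · rw [hβ, hβ, one_mul]; congr 1; ring
  · rw [hβ, hβ, hg, hg]; congr 1; linear_combination (θ * x.2 * y.2) * hA2
  · rw [hβ, show x.1 * x.2 + x.2 * x.1 = 0 by linear_combination (x.1 * x.2) * hA2, map_zero]
  · show tr _ = c ^ 2 * tr (ζ * x.1 ^ 2 + x.1 * x.2 + ζ * x.2 ^ 2)
    rw [show c ^ 2 * tr (ζ * x.1 ^ 2 + x.1 * x.2 + ζ * x.2 ^ 2) =
      tr ((c ^ 2) • (ζ * x.1 ^ 2 + x.1 * x.2 + ζ * x.2 ^ 2)) by rw [map_smul, smul_eq_mul]]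
    congr 1
    rw [Prod.smul_fst, Prod.smul_snd]
    simp only [Algebra.smul_def, map_pow]
    ring
  · show tr _ = tr _ + tr _ + β x y
    rw [hβ, ← map_add, ← map_add]
    congr 1
    simp only [Prod.fst_add, Prod.snd_add]
    linear_combination (ζ * x.1 * y.1 + ζ * x.2 * y.2) * hA2
  · show tr _ = tr _
    congr 1
    rw [hg]
    have : ζ * θ = 1 := mul_inv_cancel₀ hζ0
    linear_combination (2 * x.1 * x.2 + θ * x.2 ^ 2 + x.2 ^ 2 * θ * 0) * this + (x.1 * x.2 + θ * x.2 ^ 2) * hA2
  · rw [Module.finrank_prod, (AdjoinRoot.powerBasis' hP).finrank, AdjoinRoot.powerBasis'_dim, two_mul]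
  · obtain ⟨c, hc⟩ := FiniteField.isSquare_of_char_two (ringChar.eq (AdjoinRoot P) 2) ζ
    have h := sum_pair hA2 χ (fun a b => by show psi (tr (a + b)) = _; rw [map_add, psi_add h2])
      (psi_trace_sq h2) (by show psi (tr 0) = 1; rw [map_zero, psi_zero]) hnd c c
    rw [← pow_two] at hc
    rw [← hc, ← pow_two, ← hc] at h
    rw [sgn, finsum_eq_sum_of_fintype, Fintype.sum_prod_type]
    refine h.trans ?_
    rw [← Nat.card_eq_fintype_card, Module.natCard_eq_pow_finrank (K := F), Nat.card_eq_fintype_card,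
      (AdjoinRoot.powerBasis' hP).finrank, AdjoinRoot.powerBasis'_dim, Nat.cast_pow]
    congr 1
    show psi (tr ζ) = _
    congr 1
    have hm : minpoly F ζ = P := by
      rw [hζ, AdjoinRoot.minpoly_root hP.ne_zero, hP.leadingCoeff, inv_one, map_one, mul_one]
    have h3 := (AdjoinRoot.powerBasis hP.ne_zero).trace_gen_eq_nextCoeff_minpoly
    rw [AdjoinRoot.powerBasis_gen, ← hζ, hm] at h3
    rw [h3]
    linear_combination (-P.nextCoeff) * h2
  · refine LinearMap.ext fun x => ?_
    show g (θ * x.1, θ * x.2) = g (g x) + x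
    rw [hg, hg, hg]
    refine Prod.ext ?_ ?_
    · show θ * x.2 = x.1 + θ * x.2 + x.1
      linear_combination (-x.1) * hA2
    · show θ * x.1 + θ * (θ * x.2) = x.2 + θ * (x.1 + θ * x.2) + x.2
      linear_combination (-x.2) * hA2
  · exact LinearMap.ext fun x => Prod.ext (mul_left_comm θ ζ x.1) (mul_left_comm θ ζ x.2)
  · exact LinearMap.ext fun x => Prod.ext (by show θ * (ζ * (θ * x.1)) = θ * x.1; rw [← mul_assoc ζ, mul_inv_cancel₀ hζ0, one_mul])
      (by show θ * (ζ * (θ * x.2)) = θ * x.2; rw [← mul_assoc ζ, mul_inv_cancel₀ hζ0, one_mul])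
  · exact LinearMap.ext fun x => Prod.ext (by show ζ * (θ * (ζ * x.1)) = ζ * x.1; rw [← mul_assoc θ, inv_mul_cancel₀ hζ0, one_mul])
      (by show ζ * (θ * (ζ * x.2)) = ζ * x.2; rw [← mul_assoc θ, inv_mul_cancel₀ hζ0, one_mul])
  · rw [LinearMap.charpoly_prodMap, ← pow_two]
    congr 1
    have h3 := charpoly_leftMulMatrix (AdjoinRoot.powerBasis hP.ne_zero)
    rw [AdjoinRoot.powerBasis_gen, AdjoinRoot.minpoly_root hP.ne_zero, hP.leadingCoeff, inv_one, map_one, mul_one,
      Algebra.leftMulMatrix_apply, LinearMap.charpoly_toMatrix] at h3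
    exact h3

/-- Every polynomial with nonzero constant term. -/
theorem realized_of_coeff_zero_ne (h2 : (2 : F) = 0) : ∀ (n : ℕ) (S : F[X]), S.Monic → S.natDegree = n →
    S.coeff 0 ≠ 0 → Realized S ((Fintype.card F : ℤ) ^ n * psi S.nextCoeff) := by
  intro n
  induction n using Nat.strong_induction_on with
  | _ n ih =>
    intro S hS hn h0
    rcases Nat.eq_zero_or_pos n with rfl | hpos
    · obtain rfl := hS.natDegree_eq_zero.1 hn
      simpa [psi_zero, nextCoeff] using realized_one (F := F)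
    obtain ⟨P, hP, hPi, T, rfl⟩ := S.exists_monic_irreducible_factor
      (not_isUnit_of_natDegree_pos S (hn ▸ hpos))
    have hT := hP.of_mul_monic_left hS
    rw [mul_coeff_zero] at h0
    have hdeg : P.natDegree + T.natDegree = n := by rw [← hn, hP.natDegree_mul hT]
    have hPpos := hPi.natDegree_pos
    have h := (realized_irreducible h2 hP hPi (left_ne_zero_of_mul h0)).mul h2 hP hT
      (ih T.natDegree (by omega) T hT rfl (right_ne_zero_of_mul h0))
    rw [hP.nextCoeff_mul hT, psi_add h2, ← hdeg, pow_add]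
    convert h using 1
    ring

/-- Every polynomial, for some sign. -/
theorem exists_realized (h2 : (2 : F) = 0) : ∀ (n : ℕ) (S : F[X]), S.Monic → S.natDegree = n →
    ∃ c : F, Realized S ((Fintype.card F : ℤ) ^ n * psi c) ∧
      (S.coeff 0 = 0 → ∀ c' : F, Realized S ((Fintype.card F : ℤ) ^ n * psi c')) := by
  intro n
  induction n using Nat.strong_induction_on with
  | _ n ih =>
    intro S hS hn
    by_cases h0 : S.coeff 0 = 0
    swap
    · exact ⟨_, realized_of_coeff_zero_ne h2 n S hS hn h0, fun h => absurd h h0⟩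
    obtain ⟨T, rfl⟩ := X_dvd_iff.2 h0
    have hT := monic_X.of_mul_monic_left hS
    have hdeg : T.natDegree + 1 = n := by rw [← hn, monic_X.natDegree_mul hT, natDegree_X, add_comm]
    obtain ⟨c, hc, -⟩ := ih T.natDegree (by omega) T hT rfl
    have hall : ∀ c' : F, Realized (X * T) ((Fintype.card F : ℤ) ^ n * psi c') := fun c' => by
      have h := (realized_X h2 (c' + c)).mul h2 monic_X hT hc
      convert h using 1
      rw [← hdeg, psi_add h2]
      rcases psi_eq_one_or c with e | e <;> rw [e] <;> ring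
    exact ⟨c, hall c, fun _ => hall⟩

open Cfsg.Lib.Linear.Orth (Space mem_iso)

/-- The lower bound for a space whose sign is `q ^ n * psi ε`. -/
theorem pow_le_card_iso (h2 : (2 : F) = 0) {ι : Type} [Fintype ι] [DecidableEq ι] {Q : (ι → F) → F}
    {n : ℕ} (hn : 2 ≤ n) (ε : F)
    (hiso : ∀ (V : Type u) [AddCommGroup V] [Module F V] [FiniteDimensional F V] (g : Module.End F V)
      (β : LinearMap.BilinForm F V) (R : V → F), OSys g β R → Module.finrank F V = 2 * n →
      sgn R = (Fintype.card F : ℤ) ^ n * psi ε → ∃ θ : V ≃ₗ[F] (ι → F), ∀ x, Q (θ x) = R x) :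
    Fintype.card F ^ n ≤ 2 * Nat.card (ConjClasses ↥(isometryGroup F Q)) := by
  classical
  set P := {S : F[X] // S.Monic ∧ S.natDegree = n}
  have hP : Nat.card P = Fintype.card F ^ n := ClassSp.card_monic
  haveI : Finite P := Nat.finite_of_card_ne_zero (by rw [hP]; exact pow_ne_zero _ Fintype.card_pos.ne')
  let good : P → Prop := fun S => S.1.coeff 0 = 0 ∨ psi S.1.nextCoeff = psi ε
  have hhalf : Fintype.card F ^ n ≤ 2 * Nat.card {S : P // good S} := by
    obtain ⟨c, hc⟩ := exists_psi_neg (F := F) h2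
    have hlt : ∀ S : P, (Polynomial.C c * X ^ (n - 1)).degree < S.1.degree := fun S => by
      rw [degree_eq_natDegree S.2.1.ne_zero, S.2.2]
      exact lt_of_le_of_lt (degree_C_mul_X_pow_le _ _) (by exact_mod_cast (by omega : n - 1 < n))
    have hdeg : ∀ S : P, (S.1 + Polynomial.C c * X ^ (n - 1)).Monic ∧
        (S.1 + Polynomial.C c * X ^ (n - 1)).natDegree = n := fun S =>
      ⟨S.2.1.add_of_left (hlt S), by rw [natDegree_eq_of_degree_eq (degree_add_eq_left_of_degree_lt (hlt S)), S.2.2]⟩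
    let φ : P → P := fun S => ⟨_, hdeg S⟩
    have hφ : Function.Injective φ := fun S T h => Subtype.ext (add_right_cancel (congrArg Subtype.val h))
    have hflip : ∀ S, ¬ good S → good (φ S) := fun S hS => by
      simp only [good, not_or] at hS ⊢
      refine Or.inr ?_
      have hne := hS.2
      rw [nextCoeff_of_natDegree_pos (by rw [S.2.2]; omega), S.2.2] at hne
      rw [nextCoeff_of_natDegree_pos (by rw [(φ S).2.2]; omega), (φ S).2.2]
      show psi ((S.1 + Polynomial.C c * X ^ (n - 1)).coeff (n - 1)) = psi ε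
      rw [coeff_add, coeff_C_mul_X_pow, if_pos rfl, psi_add h2, hc]
      rcases psi_eq_one_or (S.1.coeff (n - 1)) with e | e <;> rcases psi_eq_one_or ε with e' | e' <;>
        rw [e, e'] at hne <;> rw [e, e'] <;> simp_all
    have h8 := Nat.card_le_card_of_injective (fun S : {S : P // ¬ good S} => (⟨φ S.1, hflip _ S.2⟩ : {S : P // good S}))
      fun S T h => Subtype.ext (hφ (congrArg Subtype.val h))
    rw [← hP, ← Nat.card_congr (Equiv.sumCompl good), Nat.card_sum]
    omega
  refine hhalf.trans (Nat.mul_le_mul_left 2 ?_)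
  have hex : ∀ S : {S : P // good S}, ∃ (a : ↥(isometryGroup F Q)) (v : Module.End F (ι → F)),
      PInv (Matrix.toLin' (a : GL ι F).1) v ∧ v.charpoly = S.1.1 ^ 2 := fun S => by
    have hR : Realized S.1.1 ((Fintype.card F : ℤ) ^ n * psi ε) := by
      by_cases h0 : S.1.1.coeff 0 = 0
      · obtain ⟨-, -, h⟩ := exists_realized h2 n S.1.1 S.1.2.1 S.1.2.2
        exact h h0 ε
      · have h := realized_of_coeff_zero_ne h2 n S.1.1 S.1.2.1 S.1.2.2 h0
        rwa [S.2.resolve_left h0] at h
    obtain ⟨V, _, _, _, g, v, β, R, hs, hd, hsg, ⟨w, a1, a2, a3, a4⟩, hc⟩ := hR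
    rw [S.1.2.2] at hd
    obtain ⟨θ, hθ⟩ := hiso V g β R hs hd hsg
    obtain ⟨N, hN, hgN⟩ := hs.exists_pow
    set g' := θ.conj g with hg'
    have hpow : g' ^ N = 1 := by
      rw [show g' = θ.conjAlgEquiv F g from rfl, ← map_pow, hgN, map_one]
    let a : GL ι F := ⟨LinearMap.toMatrix' g', LinearMap.toMatrix' (g' ^ (N - 1)), by
        rw [← LinearMap.toMatrix'_mul, ← pow_succ', Nat.sub_add_cancel hN, hpow, LinearMap.toMatrix'_one], by
        rw [← LinearMap.toMatrix'_mul, ← pow_succ, Nat.sub_add_cancel hN, hpow, LinearMap.toMatrix'_one]⟩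
    have ha : Matrix.toLin' a.1 = g' := Matrix.toLin'_toMatrix' g'
    refine ⟨⟨a, mem_iso.2 fun x => ?_⟩, θ.conj v, ⟨θ.conj w, ?_, ?_, ?_, ?_⟩, by rw [θ.charpoly_conj, hc]⟩
    · rw [← Matrix.toLin'_apply, ha, hg', LinearEquiv.conj_apply_apply, hθ, hs.qinv, ← hθ, θ.apply_symm_apply]
    · show Matrix.toLin' a.1 * θ.conjAlgEquiv F w = _
      rw [ha, show g' = θ.conjAlgEquiv F g from rfl, ← map_mul, a1, map_add, map_mul, map_one]
    · show θ.conjAlgEquiv F w * θ.conjAlgEquiv F v = θ.conjAlgEquiv F v * θ.conjAlgEquiv F w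
      rw [← map_mul, ← map_mul, a2]
    · show θ.conjAlgEquiv F w * θ.conjAlgEquiv F v * θ.conjAlgEquiv F w = θ.conjAlgEquiv F w
      rw [← map_mul, ← map_mul, a3]
    · show θ.conjAlgEquiv F v * θ.conjAlgEquiv F w * θ.conjAlgEquiv F v = θ.conjAlgEquiv F v
      rw [← map_mul, ← map_mul, a4]
  choose a v hv hcp using hex
  refine Nat.card_le_card_of_injective (fun S => ConjClasses.mk (a S)) fun S T h => ?_
  obtain ⟨c, hc⟩ := isConj_iff.1 (ConjClasses.mk_eq_mk_iff_isConj.1 h)
  let η : (ι → F) ≃ₗ[F] (ι → F) :=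
    Matrix.toLin'OfInv ((c : GL ι F).inv_mul) ((c : GL ι F).mul_inv)
  have hinj : Function.Injective (Matrix.toLin' (a T : GL ι F).1) := fun x y hxy =>
    Orth.act_injective (a T : GL ι F) (by rwa [Matrix.toLin'_apply, Matrix.toLin'_apply] at hxy)
  have hη : η.conjAlgEquiv F (Matrix.toLin' (a S : GL ι F).1) = Matrix.toLin' (a T : GL ι F).1 := by
    refine LinearMap.ext fun x => ?_
    have h1 : (c : GL ι F) * (a S : GL ι F) * (c : GL ι F)⁻¹ = (a T : GL ι F) := congrArg Subtype.val hc
    rw [← h1]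
    show (c : GL ι F).1 *ᵥ ((a S : GL ι F).1 *ᵥ (((c : GL ι F)⁻¹).1 *ᵥ x)) = Matrix.toLin' _ x
    rw [Matrix.toLin'_apply, Orth.mul_act, Orth.mul_act]
  have hPT : PInv (Matrix.toLin' (a T : GL ι F).1) (η.conjAlgEquiv F (v S)) := by
    obtain ⟨w, b1, b2, b3, b4⟩ := hv S
    refine ⟨η.conjAlgEquiv F w, ?_, ?_, ?_, ?_⟩
    · rw [← hη, ← map_mul, b1, map_add, map_mul, map_one]
    · rw [← map_mul, ← map_mul, b2]
    · rw [← map_mul, ← map_mul, b3]
    · rw [← map_mul, ← map_mul, b4]
  have h5 : S.1.1 ^ 2 = T.1.1 ^ 2 := by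
    rw [← hcp S, ← hcp T, ← η.charpoly_conj (v S)]
    exact congrArg LinearMap.charpoly (pinv_unique hinj hPT (hv T))
  haveI : CharP F 2 := CharTwo.of_one_ne_zero_of_two_eq_zero one_ne_zero h2
  exact Subtype.ext (Subtype.ext (CharTwo.sq_injective h5))

end Cfsg.Lib.Linear.ClassSpTwo
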