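import Cfsg.Agent.Lib.Linear.ClassSpTwo.Count
import Cfsg.Agent.S2385

/-!
# Class number bounds for `Sp_{2n}(q)`, `q` even
-/

set_option autoImplicit false

universe u

namespace Cfsg.Lib.Linear.ClassSpTwo

variable {F : Type u} [Field F] [Fintype F]

theorem two_eq_zero_of_even (heven : Even (Fintype.card F)) : (2 : F) = 0 := by
  haveI : CharP F 2 := ringChar.of_eq (FiniteField.even_card_iff_char_two.2 (Nat.even_iff.1 heven))
  exact CharTwo.two_eq_zero

/-- The semisimple classes give the lower bound. -/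
theorem pow_le_card_symp (n : ℕ) :
    Fintype.card F ^ n ≤ Nat.card (ConjClasses ↥(Matrix.symplecticGroup (Fin n) F)) := by
  classical
  obtain ⟨p, hchar⟩ := CharP.exists F
  obtain ⟨k, hp, hk⟩ := FiniteField.card F p
  haveI : Fact p.Prime := ⟨hp⟩
  rw [← Cfsg.Agent.S2385.result rfl p n]
  exact Nat.card_le_card_of_injective _ Subtype.val_injective

/-- The bound from bounds on the unipotent parts. -/
theorem card_symp_le (h2 : (2 : F) = 0) {n : ℕ} (hn : 1 ≤ n) (w : (Fin (n + n) → ℕ) → ℕ)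
    (hw : ∀ {V : Type u} [AddCommGroup V] [Module F V] [FiniteDimensional F V] (g : Module.End F V),
      (g - 1) ^ (n + n) = 0 → FormBound g (w (mu g (n + n))))
    (hsum : 5 * ∑ m ∈ Finset.range (n + 1), (∑ μ ∈ muSet (n + n) m, w μ) * 2 ^ (n - m) ≤ 76 * 2 ^ n) :
    5 * Nat.card (ConjClasses ↥(Matrix.symplecticGroup (Fin n) F)) ≤ 76 * Fintype.card F ^ n := by
  have hq : 2 ≤ Fintype.card F := Fintype.one_lt_card
  refine Nat.le_of_mul_le_mul_left (c := 2 ^ n) ?_ (Nat.two_pow_pos n)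
  calc 2 ^ n * (5 * Nat.card (ConjClasses ↥(Matrix.symplecticGroup (Fin n) F)))
      ≤ 2 ^ n * (5 * ∑ m ∈ Finset.range (n + 1), (∑ μ ∈ muSet (n + n) m, w μ) * Fintype.card F ^ (n - m)) :=
        Nat.mul_le_mul_left _ (Nat.mul_le_mul_left _ (card_classes_le h2 hn w hw))
    _ ≤ Fintype.card F ^ n * (5 * ∑ m ∈ Finset.range (n + 1), (∑ μ ∈ muSet (n + n) m, w μ) * 2 ^ (n - m)) := by
        simp only [Finset.mul_sum]
        refine Finset.sum_le_sum fun m hm => ?_
        obtain ⟨r, rfl⟩ := Nat.exists_eq_add_of_le (Nat.lt_succ_iff.1 (Finset.mem_range.1 hm))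
        rw [Nat.add_sub_cancel_left, pow_add, pow_add]
        have h : 2 ^ m ≤ Fintype.card F ^ m := Nat.pow_le_pow_left hq m
        calc 2 ^ m * 2 ^ r * (5 * ((∑ μ ∈ muSet (m + r + (m + r)) m, w μ) * Fintype.card F ^ r))
            = 2 ^ m * (5 * ((∑ μ ∈ muSet (m + r + (m + r)) m, w μ) * Fintype.card F ^ r) * 2 ^ r) := by ring
          _ ≤ Fintype.card F ^ m * (5 * ((∑ μ ∈ muSet (m + r + (m + r)) m, w μ) * Fintype.card F ^ r) * 2 ^ r) :=
              Nat.mul_le_mul_right _ h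
          _ = _ := by ring
    _ ≤ Fintype.card F ^ n * (76 * 2 ^ n) := Nat.mul_le_mul_left _ hsum
    _ = 2 ^ n * (76 * Fintype.card F ^ n) := by ring

end Cfsg.Lib.Linear.ClassSpTwo
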