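import Cfsg.Agent.Lib.Linear.ClassSpTwo.OUpper
import Cfsg.Agent.Lib.Linear.ClassSpTwo.OLower
import Cfsg.Agent.Lib.Linear.ClassSpTwo.Symp

/-!
# Class number bounds for the orthogonal groups in even dimension, `q` even
-/

set_option autoImplicit false

universe u

namespace Cfsg.Lib.Linear.ClassSpTwo

open Cfsg.Lib.Linear.Orth (Space exists_space_plus exists_space_minus)

variable {F : Type u} [Field F] [Fintype F]

/-- A bound at two is a bound at every field size. -/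
theorem scale_bound {q : ℕ} (hq : 2 ≤ q) (c : ℕ → ℕ) (b n : ℕ)
    (hsum : ∑ m ∈ Finset.range (n + 1), c m * 2 ^ (n - m) ≤ b * 2 ^ n) :
    ∑ m ∈ Finset.range (n + 1), c m * q ^ (n - m) ≤ b * q ^ n := by
  refine Nat.le_of_mul_le_mul_left (c := 2 ^ n) ?_ (Nat.two_pow_pos n)
  calc 2 ^ n * ∑ m ∈ Finset.range (n + 1), c m * q ^ (n - m)
      ≤ q ^ n * ∑ m ∈ Finset.range (n + 1), c m * 2 ^ (n - m) := by
        rw [Finset.mul_sum, Finset.mul_sum]
        refine Finset.sum_le_sum fun m hm => ?_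
        obtain ⟨r, rfl⟩ := Nat.exists_eq_add_of_le (Nat.lt_succ_iff.1 (Finset.mem_range.1 hm))
        rw [Nat.add_sub_cancel_left, pow_add, pow_add]
        calc 2 ^ m * 2 ^ r * (c m * q ^ r) = 2 ^ m * (c m * q ^ r * 2 ^ r) := by ring
          _ ≤ q ^ m * (c m * q ^ r * 2 ^ r) := Nat.mul_le_mul_right _ (Nat.pow_le_pow_left hq m)
          _ = _ := by ring
    _ ≤ q ^ n * (b * 2 ^ n) := Nat.mul_le_mul_left _ hsum
    _ = 2 ^ n * (b * q ^ n) := by ring

/-- Both bounds, from the bound on unipotent parts. -/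
theorem orth_class_bounds (h2 : (2 : F) = 0) {n : ℕ} (hn : 2 ≤ n) (a b : F)
    (hab : ∀ z₁ z₂ : F, z₁ ^ 2 + a * z₁ * z₂ + b * z₂ ^ 2 = 0 → z₁ = 0 ∧ z₂ = 0) (c : ℕ → ℕ)
    (hc : ∀ {κ : Type u} [Finite κ] {V : κ → Type u} [∀ i, AddCommGroup (V i)] [∀ i, Module F (V i)]
      [∀ i, FiniteDimensional F (V i)] (g : ∀ i, Module.End F (V i)) (β : ∀ i, LinearMap.BilinForm F (V i))
      (R : ∀ i, V i → F) (m : ℕ), (∀ i, OSys (g i) (β i) (R i)) → (∀ i, (g i - 1) ^ (n + n) = 0) →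
      (∀ i, Module.finrank F (V i) = 2 * m) → (∀ i j, sgn (R i) = sgn (R j)) →
      (∀ i j, OEqv (g i) (R i) (g j) (R j) → i = j) → Nat.card κ ≤ c m)
    (hsum : ∑ m ∈ Finset.range (n + 1), c m * 2 ^ (n - m) ≤ 15 * 2 ^ n) :
    (Fintype.card F ^ n ≤ 2 * Nat.card (ConjClasses ↥(Cfsg.isometryGroup F (Cfsg.quadFormPlus n F))) ∧
      Nat.card (ConjClasses ↥(Cfsg.isometryGroup F (Cfsg.quadFormPlus n F))) ≤ 15 * Fintype.card F ^ n) ∧
    (Fintype.card F ^ n ≤ 2 * Nat.card (ConjClasses ↥(Cfsg.isometryGroup F (Cfsg.quadFormMinus (n - 1) F a b))) ∧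
      Nat.card (ConjClasses ↥(Cfsg.isometryGroup F (Cfsg.quadFormMinus (n - 1) F a b))) ≤ 15 * Fintype.card F ^ n) := by
  have hq : 2 ≤ Fintype.card F := Fintype.one_lt_card
  have hpos : (0 : ℤ) < (Fintype.card F : ℤ) ^ n := pow_pos (by exact_mod_cast Fintype.card_pos) n
  obtain ⟨B, hB⟩ := exists_space_plus (F := F) n
  obtain ⟨B', hB'⟩ := exists_space_minus (n - 1) a b hab
  refine ⟨⟨pow_le_card_iso h2 hn 0 fun V _ _ _ g β R hs hfr hsg => ?_, ?_⟩,
    ?_, ?_⟩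
  · exact (exists_iso_std h2 hs (by omega) hfr a b hab).1 (by rw [hsg, psi_zero, mul_one])
  · refine (card_classes_iso_le h2 hB (by omega) (by rw [Fintype.card_sum, Fintype.card_fin]) ?_ c hc).trans
      (scale_bound hq c 15 n hsum)
    rw [sgn_plus h2]
    exact hpos.ne'
  · obtain ⟨ε, hε⟩ := exists_psi_neg (F := F) h2
    exact pow_le_card_iso h2 hn ε fun V _ _ _ g β R hs hfr hsg =>
      (exists_iso_std h2 hs (by omega) hfr a b hab).2 (by rw [hsg, hε, mul_neg_one])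
  · refine (card_classes_iso_le h2 hB' (by omega)
      (by rw [Fintype.card_sum, Fintype.card_sum, Fintype.card_fin, Fintype.card_fin]; omega) ?_ c hc).trans
      (scale_bound hq c 15 n hsum)
    rw [sgn_minus h2 _ a b hab, Nat.sub_add_cancel (by omega : 1 ≤ n)]
    exact neg_ne_zero.2 hpos.ne'

end Cfsg.Lib.Linear.ClassSpTwo
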