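import Cfsg.Agent.Lib.Linear.ClassSpTwo.OKey
import Cfsg.Agent.Lib.Linear.OrthBasic

/-!
# The class number of the isometry group of a quadratic form, from the unipotent bound
-/

set_option autoImplicit false
set_option maxHeartbeats 1000000

universe u

namespace Cfsg.Lib.Linear.ClassSpTwo

open Matrix Cfsg.Lib Cfsg.Lib.Linear.ClassNumberGL
open Cfsg.Lib.Linear.Orth (Space mem_iso)

variable {F : Type u} [Field F] [Fintype F] {ι : Type} [Fintype ι] [DecidableEq ι]
  {Q : (ι → F) → F} {B : LinearMap.BilinForm F (ι → F)}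

/-- An element of the isometry group as an operator. -/
noncomputable def opOf (a : ↥(isometryGroup F Q)) : Module.End F (ι → F) := Matrix.toLin' (a : GL ι F).1

theorem osys_opOf (h2 : (2 : F) = 0) (C : Space Q B) (a : ↥(isometryGroup F Q)) : OSys (opOf a) B Q where
  sep _ hx := C.nondeg' hx
  sym x y := by rw [one_mul]; exact C.symm y x
  inv x y := by
    rw [opOf, Matrix.toLin'_apply, Matrix.toLin'_apply]
    exact C.B_act a.2 x y
  alt x := by rw [C.self, h2, zero_mul]
  qsmul := C.smul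
  qadd := C.add
  qinv x := by rw [opOf, Matrix.toLin'_apply]; exact mem_iso.1 a.2 x

omit [Fintype F] in
theorem isConj_of_oeqv {a b : ↥(isometryGroup F Q)} (h : OEqv (opOf a) Q (opOf b) Q) : IsConj a b := by
  obtain ⟨θ, h1, h3⟩ := h
  let y : GL ι F := ⟨LinearMap.toMatrix' θ.toLinearMap, LinearMap.toMatrix' θ.symm.toLinearMap, by
      rw [← LinearMap.toMatrix'_comp, show θ.toLinearMap ∘ₗ θ.symm.toLinearMap = LinearMap.id from
        LinearMap.ext fun v => θ.apply_symm_apply v, LinearMap.toMatrix'_id], by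
      rw [← LinearMap.toMatrix'_comp, show θ.symm.toLinearMap ∘ₗ θ.toLinearMap = LinearMap.id from
        LinearMap.ext fun v => θ.symm_apply_apply v, LinearMap.toMatrix'_id]⟩
  have hy : ∀ v, y.1 *ᵥ v = θ v := fun v => by
    rw [← Matrix.toLin'_apply, show y.1 = LinearMap.toMatrix' θ.toLinearMap from rfl, Matrix.toLin'_toMatrix']
    rfl
  have hmem : y ∈ isometryGroup F Q := mem_iso.2 fun v => by rw [hy]; exact h3 v
  refine isConj_iff.2 ⟨⟨y, hmem⟩, mul_inv_eq_iff_eq_mul.2 (Subtype.ext (Orth.gl_ext fun v => ?_))⟩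
  rw [Subgroup.coe_mul, Subgroup.coe_mul, Orth.mul_act, Orth.mul_act, hy, hy]
  have := h1 v
  rwa [opOf, opOf, Matrix.toLin'_apply, Matrix.toLin'_apply] at this

/-- The bound. -/
theorem card_classes_iso_le (h2 : (2 : F) = 0) (C : Space Q B) {n : ℕ} (hn : 1 ≤ n) (hι : Fintype.card ι = n + n)
    (hsgn : sgn Q ≠ 0) (c : ℕ → ℕ)
    (hc : ∀ {κ : Type u} [Finite κ] {V : κ → Type u} [∀ i, AddCommGroup (V i)] [∀ i, Module F (V i)]
      [∀ i, FiniteDimensional F (V i)] (g : ∀ i, Module.End F (V i)) (β : ∀ i, LinearMap.BilinForm F (V i))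
      (R : ∀ i, V i → F) (m : ℕ), (∀ i, OSys (g i) (β i) (R i)) → (∀ i, (g i - 1) ^ (n + n) = 0) →
      (∀ i, Module.finrank F (V i) = 2 * m) → (∀ i j, sgn (R i) = sgn (R j)) →
      (∀ i j, OEqv (g i) (R i) (g j) (R j) → i = j) → Nat.card κ ≤ c m) :
    Nat.card (ConjClasses ↥(isometryGroup F Q)) ≤
      ∑ m ∈ Finset.range (n + 1), c m * Fintype.card F ^ (n - m) := by
  classical
  have hfr : Module.finrank F (ι → F) = n + n := by rw [Module.finrank_fintype_fun_eq_card, hι]
  choose key hkey using fun x : ConjClasses ↥(isometryGroup F Q) =>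
    exists_key h2 (osys_opOf h2 C x.out) hn hfr
  haveI : ∀ m : Fin (n + 1), Finite (Tup F (n + n) (n - m.val)) := fun m => (finite_card_tup _ _).1
  letI : ∀ m : Fin (n + 1), Fintype (Tup F (n + n) (n - m.val)) := fun m => Fintype.ofFinite _
  rw [← Nat.card_congr (Equiv.sigmaFiberEquiv key), Nat.card_sigma, Fintype.sum_sigma, Finset.sum_range]
  refine Finset.sum_le_sum fun m _ => ?_
  refine (Finset.sum_le_card_nsmul _ _ (c m.val) fun R _ => ?_).trans ?_
  swap
  · rw [Finset.card_univ, ← Nat.card_eq_fintype_card, smul_eq_mul, mul_comm]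
    exact Nat.mul_le_mul_left _ (card_tup_le_pow (by omega))
  let g := fun x : {x // key x = (⟨m, R⟩ : Key F n)} => opOf x.1.out
  have hO := fun x => (osys_opOf h2 C x.1.out : OSys (g x) B Q).restrict h2 hfr.le
  have hk : ∀ x, IsKey (g x) (⟨m, R⟩ : Key F n) := fun x => by
    have := hkey x.1
    rwa [x.2] at this
  have hrest : ∀ x y, OEqv (gRest (g x) (n + n)) (fun v => Q v.val) (gRest (g y) (n + n)) (fun v => Q v.val) := by
    intro x y
    obtain ⟨η, hη⟩ := (hk x).exists_equiv hn (hk y) h2 hfr hfr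
    exact rest_oeqv h2 (hO x).2.1 (hO y).2.1 (gRest_injective _ hfr.le (by omega)) η hη
  refine hc (κ := {x // key x = (⟨m, R⟩ : Key F n)}) (V := fun x => ↥(one1 (g x) (n + n)))
    (fun x => gOne (g x) (n + n)) _ (fun x v => Q v.val) m.val (fun x => (hO x).1) (fun x => gOne_nil _ _)
    (fun x => (hk x).1) (fun x y => ?_) fun x y hxy => ?_
  · have e1 := (hO x).2.2.2
    have e2 := (hO y).2.2.2
    rw [(hrest x y).sgn_eq] at e1
    exact mul_right_cancel₀ (fun h0 => hsgn (by rw [e2, h0, mul_zero])) (e1.symm.trans e2)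
  · have h := isConj_of_oeqv (oeqv_of_parts h2 (osys_opOf h2 C x.1.out) (osys_opOf h2 C y.1.out) hfr.le hfr.le
      hxy (hrest x y))
    apply Subtype.ext
    rw [← Quotient.out_eq x.1, ← Quotient.out_eq y.1]
    exact ConjClasses.mk_eq_mk_iff_isConj.2 h

end Cfsg.Lib.Linear.ClassSpTwo
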