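import Cfsg.Agent.Lib.Linear.ClassSpTwo.Unip
import Cfsg.Agent.Lib.Linear.UniTwo.NumericO

/-!
# Unipotent isometries of quadratic forms in characteristic two

On a unipotent module of type `μ` the invariant nondegenerate quadratic forms whose Gauss sum has a given
sign fall into at most `wQ μ` classes; the weighted sum of all `wQ μ` is at most `15`.
-/

set_option autoImplicit false

universe u

namespace Cfsg.Lib.Linear.ClassSpTwo

open Polynomial UniTwo

/-- An invariant quadratic form with nondegenerate polar form `B`. -/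
structure QPair {F : Type u} [Field F] {V : Type u} [AddCommGroup V] [Module F V] (g : Module.End F V)
    (B : LinearMap.BilinForm F V) (Q : V → F) : Prop extends AForm g B where
  qsmul : ∀ (c : F) x, Q (c • x) = c ^ 2 * Q x
  qadd : ∀ x y, Q (x + y) = Q x + Q y + B x y
  qinv : ∀ x, Q (g x) = Q x

/-- The number of positive normal forms of type `μ`. -/
def wQ {D : ℕ} (μ : Fin D → ℕ) : ℕ :=
  ((words 0 D ((∑ j, (j.val + 1) * μ j) / 2) false ++ words 0 D ((∑ j, (j.val + 1) * μ j) / 2) true).filter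
    fun l => isPos l && decide (∀ j : Fin D, profile l (j.val + 1) = μ j)).length

theorem sum_wQ_le (D m : ℕ) : ∑ μ ∈ muSet D m, wQ μ ≤ pc D m false + pc D m true := by
  classical
  rw [pc, pc, ← List.countP_append, List.countP_eq_length_filter,
    Finset.sum_congr rfl (g := fun μ => (((words 0 D m false ++ words 0 D m true).filter isPos).filter
      fun l => decide (∀ j : Fin D, profile l (j.val + 1) = μ j)).length) fun μ hμ => by
        rw [wQ, mem_muSet.1 hμ, Nat.mul_div_cancel_left _ two_pos, List.filter_filter]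
        simp only [Bool.and_comm]]
  exact sum_filter_le (muSet D m) (fun l μ => ∀ j : Fin D, profile l (j.val + 1) = μ j)
    (fun l μ μ' _ _ h h' => funext fun j => (h j).symm.trans (h' j)) _

/-- The weighted number of positive normal forms is at most `15`. -/
theorem wQ_sum_le (D n : ℕ) :
    ∑ m ∈ Finset.range (n + 1), (∑ μ ∈ muSet D m, wQ μ) * 2 ^ (n - m) ≤ 15 * 2 ^ n := by
  have h1 := UniTwo.sum_pc_le D (n + 1)
  have h2 : ((∑ m ∈ Finset.range (n + 1), (pc D m false + pc D m true) * 2 ^ (n - m) : ℕ) : ℚ) ≤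
      ((15 * 2 ^ n : ℕ) : ℚ) := by
    have h3 : ∀ m ∈ Finset.range (n + 1), ((pc D m false + pc D m true : ℕ) : ℚ) * 2 ^ (n - m) =
        2 ^ n * (((pc D m false + pc D m true : ℕ) : ℚ) / 2 ^ m) := fun m hm => by
      obtain ⟨k, rfl⟩ : ∃ k, n = m + k := ⟨n - m, by rw [Finset.mem_range] at hm; omega⟩
      rw [Nat.add_sub_cancel_left, pow_add]
      field_simp
    have h4 := mul_le_mul_of_nonneg_left h1 (show (0 : ℚ) ≤ 2 ^ n by positivity)
    rw [Nat.cast_sum, Nat.cast_mul, Nat.cast_pow]
    simp only [Nat.cast_mul, Nat.cast_pow, Nat.cast_ofNat]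
    rw [Finset.sum_congr rfl h3, ← Finset.mul_sum]
    linarith
  refine le_trans (Finset.sum_le_sum fun m _ => Nat.mul_le_mul_right _ (sum_wQ_le D m)) ?_
  exact_mod_cast h2

theorem profile_of_shape : ∀ {w w' : List Word}, w.map Dom.shape = w'.map Dom.shape → ∀ e, profile w e = profile w' e
  | [], [], _, _ => rfl
  | [], _ :: _, h, _ => by simp at h
  | _ :: _, [], h, _ => by simp at h
  | p :: w, p' :: w', h, e => by
    simp only [List.map_cons, List.cons.injEq] at h
    rw [profile, profile, profile_of_shape h.2]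
    have h1 := h.1
    rcases p with ⟨m, α⟩ | ⟨k, α⟩ <;> rcases p' with ⟨m', α'⟩ | ⟨k', α'⟩ <;> simp [Dom.shape] at h1 <;>
      simp [Word.blocks, h1]

variable {F : Type u} [Field F] {V : Type u} [AddCommGroup V] [Module F V]

theorem isSys_of_qpair [CharP F 2] {g : Module.End F V} {B : LinearMap.BilinForm F V} {Q : V → F}
    (h : QPair g B Q) : IsSys 0 (g - 1) B Q := by
  have hgn : ∀ x, g x = x + (g - 1) x := fun x => by simp
  refine ⟨Nat.zero_le _, h.alt, h.sep, fun x y => ?_, h.qsmul, fun x y => ?_, fun x => ?_⟩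
  · have h1 := h.inv x y
    rw [hgn x, hgn y] at h1
    simp only [map_add, LinearMap.add_apply] at h1
    linear_combination h1
  · rw [pow_zero_apply, pow_zero_apply, h.qadd]
  · rw [show (1 : ℕ) - 0 = 1 from rfl, pow_one_apply]
    have h1 := h.qinv x
    rw [hgn x, h.qadd] at h1
    have h2 : Q ((g - 1) x) + B x ((g - 1) x) = 0 := by linear_combination h1
    exact (CharTwo.add_eq_zero.1 h2).symm

/-- At most `wQ μ` classes of invariant quadratic forms of one sign on a unipotent module of type `μ`. -/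
theorem quad_bound [Finite F] [CharP F 2] [Finite V] [FiniteDimensional F V] (g : Module.End F V) (D : ℕ)
    (hg : (g - 1) ^ D = 0) (σ : Bool) :
    ∃ γ : Fin (wQ (mu g D)) → LinearMap.BilinForm F V × (V → F), ∀ B Q, QPair g B Q →
      (0 < gauss Q (⊤ : Submodule F V) ↔ σ = true) →
        ∃ i, ∃ θ : V ≃ₗ[F] V, (∀ x, θ (g x) = g (θ x)) ∧ (∀ x y, (γ i).1 (θ x) (θ y) = B x y) ∧
          ∀ x, (γ i).2 (θ x) = Q x := by
  classical
  obtain ⟨a, ha⟩ := exists_not_artin (F := F)
  set n : Module.End F V := g - 1 with hn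
  have hgn : ∀ x, g x = x + n x := fun x => by simp [hn]
  have hrk : ∀ e, ClassSp.rk g ((X - C 1) ^ e) = rkOn n (⊤ : Submodule F V) e := fun e => by
    have h1 : aeval g ((X - C 1) ^ e : F[X]) = n ^ e := by
      rw [map_pow, map_sub, aeval_X, aeval_C, map_one]
    rw [ClassSp.rk, h1, rkOn, Submodule.map_top]
  set μ := mu g D with hμ
  set L := (words 0 D ((∑ j, (j.val + 1) * μ j) / 2) false ++ words 0 D ((∑ j, (j.val + 1) * μ j) / 2) true).filter
    fun l => (isPos l == σ) && decide (∀ j : Fin D, profile l (j.val + 1) = μ j) with hL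
  have hle : L.length ≤ wQ μ := by
    cases σ with
    | true => exact le_of_eq (by simp [hL, wQ])
    | false =>
      have h0 : Dom (words 0 D ((∑ j, (j.val + 1) * μ j) / 2) false ++ words 0 D ((∑ j, (j.val + 1) * μ j) / 2) true) :=
        dom_append (dom_words _ _ _).1 (dom_words _ _ _).1
      have h1 := h0 (fun l => decide (∀ j : Fin D, profile l (j.val + 1) = μ j)) fun w w' e => by
        simp only [profile_of_shape e]
      rw [hL, wQ, ← List.countP_eq_length_filter, ← List.countP_eq_length_filter]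
      simpa using h1
  let Good : List Word → LinearMap.BilinForm F V × (V → F) → Prop := fun l p =>
    QPair g p.1 p.2 ∧ Real 0 n p.1 p.2 a l ⊤
  refine ⟨fun i => if h : ∃ hi : i.val < L.length, ∃ p, Good L[i.val] p then h.2.choose else (0, 0),
    fun B Q hBQ hσ => ?_⟩
  have h : IsSys 0 n B Q := isSys_of_qpair hBQ
  obtain ⟨hd, hfr⟩ := even_finrank hBQ.alt _ (⊤ : Submodule F V) rfl (fun x _ hx => h.sep x fun y => hx y trivial) h.sep
  obtain ⟨o, ho⟩ : ∃ o : Bool, o = true ↔ St 0 n Q D (⊤ : Submodule F V) := ⟨decide _, decide_eq_true_iff⟩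
  obtain ⟨l, hl, hr⟩ := exists_word h ha D hd ⊤ (sub_top h) (by omega) (fun x _ => by rw [hg]; rfl) o ho
  have hprof : ∀ j : Fin D, profile l (j.val + 1) = μ j := fun j => by
    have h1 := rk_second_diff h l hr j.val
    rw [hμ, mu, ClassSp.mult, hrk, hrk, hrk, Nat.add_sub_cancel]
    rw [show (rkOn n ⊤ (j.val + 2) : ℤ) = rkOn n ⊤ (j.val + 1 + 1) from rfl] at h1
    omega
  have hsize : ∑ j, (j.val + 1) * μ j = 2 * hd := by
    have h1 := telescope (fun e => (rkOn n (⊤ : Submodule F V) e : ℤ)) D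
    rw [Finset.sum_congr rfl fun e _ => by rw [rk_second_diff h l hr e], ← Fin.sum_univ_eq_sum_range
      (fun e => ((e : ℤ) + 1) * profile l (e + 1))] at h1
    have h0 : ∀ e, D ≤ e → rkOn n (⊤ : Submodule F V) e = 0 := fun e he => by
      have hz : n ^ e = 0 := by rw [← Nat.sub_add_cancel he, pow_add, hg, mul_zero]
      rw [rkOn, hz, Submodule.map_zero]
      exact finrank_bot F V
    have hr0 : rkOn n (⊤ : Submodule F V) 0 = 2 * hd := by
      have hid : (⊤ : Submodule F V).map (n ^ 0) = ⊤ := by rw [pow_zero]; exact Submodule.map_id _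
      rw [rkOn, hid]
      omega
    simp only [h0 D le_rfl, h0 (D + 1) (Nat.le_succ D), hr0, Nat.cast_zero, mul_zero, sub_zero, add_zero] at h1
    simp only [hprof] at h1
    exact_mod_cast h1
  have hmem : l ∈ words 0 D hd o := hl
  have hsgn : isPos l = σ := by
    have h1 := sgn_gauss h ha l ((dom_words D hd o).2 l hmem) hr
    rcases sgn_eq l with h2 | h2
    · rw [h2, one_mul] at h1
      simp [isPos, h2, hσ.1 h1]
    · rw [h2] at h1
      have h3 : σ = false := Bool.eq_false_iff.2 fun e => by have := hσ.2 e; linarith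
      simp [isPos, h2, h3]
  have hlL : l ∈ L := by
    rw [hL, List.mem_filter, hsize, Nat.mul_div_cancel_left _ two_pos]
    refine ⟨?_, by simp [hsgn, hprof]⟩
    cases o with
    | true => exact List.mem_append_right _ hl
    | false => exact List.mem_append_left _ hl
  obtain ⟨i, hi, hil⟩ := List.getElem_of_mem hlL
  refine ⟨⟨i, lt_of_lt_of_le hi hle⟩, ?_⟩
  have hex : ∃ hi : i < L.length, ∃ p, Good L[i] p := ⟨hi, (B, Q), hBQ, by rwa [hil]⟩
  simp only [dif_pos hex]
  obtain ⟨hB', hr'⟩ := hex.2.choose_spec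
  generalize hex.2.choose = p at hB' hr' ⊢
  obtain ⟨θ, hθ, hθB, hθQ⟩ := eqv_of_real h (isSys_of_qpair hB') hr (by rwa [hil] at hr')
  exact ⟨θ, fun x => by rw [hgn, map_add, hθ, ← hgn], hθB, hθQ⟩

/-- The Gauss sum does not vanish. -/
theorem gauss_ne_zero [Finite F] [CharP F 2] [Finite V] [FiniteDimensional F V] {g : Module.End F V}
    {B : LinearMap.BilinForm F V} {Q : V → F} (h : QPair g B Q) {D : ℕ} (hg : (g - 1) ^ D = 0) :
    gauss Q (⊤ : Submodule F V) ≠ 0 := by
  classical
  obtain ⟨a, ha⟩ := exists_not_artin (F := F)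
  have hs := isSys_of_qpair h
  obtain ⟨hd, hfr⟩ := even_finrank h.alt _ (⊤ : Submodule F V) rfl (fun x _ hx => hs.sep x fun y => hx y trivial) hs.sep
  obtain ⟨o, ho⟩ : ∃ o : Bool, o = true ↔ St 0 (g - 1) Q D (⊤ : Submodule F V) := ⟨decide _, decide_eq_true_iff⟩
  obtain ⟨l, hl, hr⟩ := exists_word hs ha D hd ⊤ (sub_top hs) (by omega) (fun x _ => by rw [hg]; rfl) o ho
  intro h0
  have h1 := sgn_gauss hs ha l ((dom_words D hd o).2 l hl) hr
  rw [h0, mul_zero] at h1
  exact lt_irrefl _ h1

end Cfsg.Lib.Linear.ClassSpTwo
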