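import Cfsg.Agent.Lib.Linear.ClassSpTwo.OBasic
import Cfsg.Agent.Lib.Linear.ClassSpTwo.UnipQuad

/-!
# Unipotent isometry classes of quadratic spaces of one sign
-/

set_option autoImplicit false

universe u v

namespace Cfsg.Lib.Linear.ClassSpTwo

open UniTwo

/-- The bound on the unipotent classes of one sign in dimension `2 m`. -/
def cO (D m : ℕ) : ℕ := pc D m false + pc D m true

/-- The weighted sum of the bounds is at most `15`. -/
theorem cO_sum_le (D n : ℕ) : ∑ m ∈ Finset.range (n + 1), cO D m * 2 ^ (n - m) ≤ 15 * 2 ^ n := by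
  have h1 := UniTwo.sum_pc_le D (n + 1)
  have h2 : ((∑ m ∈ Finset.range (n + 1), cO D m * 2 ^ (n - m) : ℕ) : ℚ) ≤ ((15 * 2 ^ n : ℕ) : ℚ) := by
    have h3 : ∀ m ∈ Finset.range (n + 1), (cO D m : ℚ) * 2 ^ (n - m) = 2 ^ n * ((cO D m : ℚ) / 2 ^ m) :=
      fun m hm => by
        obtain ⟨k, rfl⟩ : ∃ k, n = m + k := ⟨n - m, by rw [Finset.mem_range] at hm; omega⟩
        rw [Nat.add_sub_cancel_left, pow_add]
        field_simp
    have h4 := mul_le_mul_of_nonneg_left h1 (show (0 : ℚ) ≤ 2 ^ n by positivity)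
    rw [Nat.cast_sum, Nat.cast_mul, Nat.cast_pow]
    simp only [Nat.cast_mul, Nat.cast_pow, Nat.cast_ofNat]
    rw [Finset.sum_congr rfl h3, ← Finset.mul_sum]
    simp only [cO]
    linarith
  exact_mod_cast h2

/-- Pairwise inequivalent unipotent quadratic spaces of one sign are at most `cO D m` many. -/
theorem orth_unip {F : Type u} [Field F] [Finite F] (h2 : (2 : F) = 0) {ι : Type*} [Finite ι] {V : ι → Type u}
    [∀ i, AddCommGroup (V i)] [∀ i, Module F (V i)] [∀ i, FiniteDimensional F (V i)]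
    (g : ∀ i, Module.End F (V i)) (B : ∀ i, LinearMap.BilinForm F (V i)) (Q : ∀ i, V i → F) (D m : ℕ)
    (hsys : ∀ i, OSys (g i) (B i) (Q i)) (hnil : ∀ i, (g i - 1) ^ D = 0)
    (hdim : ∀ i, Module.finrank F (V i) = 2 * m) (hsgn : ∀ i j, sgn (Q i) = sgn (Q j))
    (hinj : ∀ i j, OEqv (g i) (Q i) (g j) (Q j) → i = j) : Nat.card ι ≤ cO D m := by
  classical
  haveI : CharP F 2 := CharTwo.of_one_ne_zero_of_two_eq_zero one_ne_zero h2
  obtain ⟨a, ha⟩ := exists_not_artin (F := F)
  haveI : ∀ i, Finite (V i) := fun i => Module.finite_of_finite F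
  have hpsi : ∀ c : F, UniTwo.psi c = psi c := fun c => if_congr (by rfl) rfl rfl
  have hgauss : ∀ i, gauss (Q i) (⊤ : Submodule F (V i)) = sgn (Q i) := fun i => by
    haveI := Fintype.ofFinite (V i)
    rw [gauss_eq, sgn, finsum_eq_sum_of_fintype]
    exact Fintype.sum_equiv (Equiv.subtypeUnivEquiv fun _ => Submodule.mem_top) _ _ fun x => hpsi _
  have hs : ∀ i, IsSys 0 (g i - 1) (B i) (Q i) := fun i =>
    isSys_of_qpair ⟨(hsys i).toAForm, (hsys i).qsmul, (hsys i).qadd, (hsys i).qinv⟩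
  set L := words 0 D m false ++ words 0 D m true with hL
  have hw : ∀ i, ∃ l ∈ L, Real 0 (g i - 1) (B i) (Q i) a l ⊤ ∧ 0 < UniTwo.sgn l * sgn (Q i) := fun i => by
    obtain ⟨o, ho⟩ : ∃ o : Bool, o = true ↔ St 0 (g i - 1) (Q i) D (⊤ : Submodule F (V i)) :=
      ⟨decide _, decide_eq_true_iff⟩
    obtain ⟨l, hl, hr⟩ := exists_word (hs i) ha D m ⊤ (sub_top (hs i)) (by rw [finrank_top]; exact hdim i)
      (fun x _ => by rw [hnil i]; rfl) o ho
    refine ⟨l, ?_, hr, by rw [← hgauss]; exact sgn_gauss (hs i) ha l ((dom_words D m o).2 l hl) hr⟩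
    cases o with
    | true => exact List.mem_append_right _ hl
    | false => exact List.mem_append_left _ hl
  choose l hl hr hsg using hw
  have hinj' : Function.Injective l := fun i j hij => hinj i j (by
    obtain ⟨θ, hθ, -, hθQ⟩ := eqv_of_real (hs i) (hs j) (hr i) (hij ▸ hr j)
    refine ⟨θ, fun x => ?_, hθQ⟩
    have h1 := hθ x
    simp only [LinearMap.sub_apply, Module.End.one_apply, map_sub] at h1
    exact sub_left_injective h1)
  rcases isEmpty_or_nonempty ι with hι | ⟨⟨i₀⟩⟩
  · rw [Nat.card_of_isEmpty]; exact Nat.zero_le _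
  have hdom : Dom L := dom_append (dom_words _ _ _).1 (dom_words _ _ _).1
  have hpos : L.countP isPos = cO D m := by rw [hL, List.countP_append]; rfl
  have key : Nat.card ι ≤ L.countP fun w => isPos w == decide (0 < sgn (Q i₀)) := by
    haveI := Fintype.ofFinite ι
    have hmem : ∀ i, l i ∈ L.filter fun w => isPos w == decide (0 < sgn (Q i₀)) := fun i => by
      rw [List.mem_filter]
      refine ⟨hl i, ?_⟩
      have h1 := hsg i
      rw [hsgn i i₀] at h1
      rcases sgn_eq (l i) with h2 | h2 <;> rw [h2] at h1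
      · simp [isPos, h2, show 0 < sgn (Q i₀) by linarith]
      · simp [isPos, h2, show ¬ 0 < sgn (Q i₀) by linarith]
    rw [Nat.card_eq_fintype_card, List.countP_eq_length_filter, ← Finset.card_univ,
      ← Finset.card_image_of_injective _ hinj']
    refine (Finset.card_le_card (t := (L.filter fun w => isPos w == decide (0 < sgn (Q i₀))).toFinset)
      fun w hw => ?_).trans (List.toFinset_card_le _)
    obtain ⟨i, -, rfl⟩ := Finset.mem_image.1 hw
    exact List.mem_toFinset.2 (hmem i)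
  refine key.trans (le_trans ?_ hpos.le)
  cases decide (0 < sgn (Q i₀)) with
  | true => exact le_of_eq (List.countP_congr fun w _ => by simp)
  | false => simpa using hdom (fun _ => true) fun _ _ _ => rfl

end Cfsg.Lib.Linear.ClassSpTwo
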